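import Cfsg.Agent.Lib.Helper54.Co0Inv
import Cfsg.Agent.Lib.Helper54.Co0Order
import Cfsg.Agent.Lib.Helper54.Co0Type34
import Cfsg.Agent.Lib.Helper92.PCY.Glue

/-!
# Pointwise stabilisers in `Co0` acting on a class of lattice vectors given by a table

On top of helper54's engine: `FixL bs` is the pointwise stabiliser of a list of lattice vectors, it acts
on the class `ClsL bs n c`; a table of the class gives a homomorphism to `Perm (Fin N)`.
-/

set_option autoImplicit false

namespace Cfsg.Agent.Lib.Helper92.PCY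

open Cfsg Cfsg.Agent.Lib.Helper54 Cfsg.Agent.Lib.Helper27

/-- the pointwise stabiliser of a list of lattice vectors. -/
def FixL (bs : List ↥leechLattice) : Subgroup ↥Co0 where
  carrier := {g | ∀ b ∈ bs, g • b = b}
  one_mem' := fun b _ => one_smul _ b
  mul_mem' := fun {x y} hx hy b hb => by rw [mul_smul, hy b hb, hx b hb]
  inv_mem' := fun {x} hx b hb => by rw [inv_smul_eq_iff, hx b hb]

theorem mem_FixL {bs : List ↥leechLattice} {g : ↥Co0} : g ∈ FixL bs ↔ ∀ b ∈ bs, g • b = b := Iff.rfl

theorem map_smul_of_mem {bs : List ↥leechLattice} {g : ↥Co0} (hg : g ∈ FixL bs) :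
    bs.map (fun b => g • b) = bs := by
  conv_rhs => rw [← List.map_id bs]
  exact List.map_congr_left (fun b hb => hg b hb)

theorem clsL_of_mem {bs : List ↥leechLattice} {n : ℤ} {c : List ℤ} {g : ↥Co0} (hg : g ∈ FixL bs)
    {x : ↥leechLattice} (hx : ClsL bs n c x) : ClsL bs n c (g • x) := by
  have := (clsL_smul g bs n c x).2 hx
  rwa [map_smul_of_mem hg] at this

theorem card_FixL_nil : Nat.card (FixL []) = Nat.card ↥Co0 := by
  have : FixL [] = ⊤ := by
    rw [eq_top_iff]
    intro g _ b hb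
    exact absurd hb (by simp)
  rw [this]
  exact Nat.card_congr Subgroup.topEquiv.toEquiv

theorem card_FixL_cons {bs : List ↥leechLattice} {n : ℤ} {c : List ℤ} {N : ℕ} {b0 : ↥leechLattice}
    (ht : TransL bs n c) (hc : CountL bs n c N) (hb : ClsL bs n c b0) :
    Nat.card (FixL bs) = N * Nat.card (FixL (b0 :: bs)) := by
  have h1 := card_smul_mem (G := FixL bs) (X := ↥leechLattice) b0 {x | ClsL bs n c x}
    (fun y hy => by
      obtain ⟨g, hg, h⟩ := ht b0 y hb hy
      exact ⟨⟨g, hg⟩, h⟩)
  have h2 : Nat.card {g : FixL bs // g • b0 ∈ {x | ClsL bs n c x}} = Nat.card (FixL bs) :=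
    Nat.card_congr (Equiv.subtypeUnivEquiv (fun g => clsL_of_mem g.2 hb))
  have h3 : Nat.card (MulAction.stabilizer (FixL bs) b0) = Nat.card (FixL (b0 :: bs)) := by
    refine Nat.card_congr ⟨fun g => ⟨g.1.1, ?_⟩, fun g => ⟨⟨g.1, ?_⟩, ?_⟩, fun g => rfl, fun g => rfl⟩
    · intro b hb'
      rcases List.mem_cons.1 hb' with rfl | hb'
      · exact g.2
      · exact g.1.2 b hb'
    · exact fun b hb' => g.2 b (List.mem_cons_of_mem _ hb')
    · exact g.2 b0 List.mem_cons_self
  rw [← h2, h1, h3, hc]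

/-- conjugate lists have isomorphic stabilisers. -/
theorem nonempty_FixL_congr {bs bs' : List ↥leechLattice} (h : ConjL bs bs') :
    Nonempty (FixL bs ≃* FixL bs') := by
  obtain ⟨a, rfl⟩ := h
  refine ⟨{ toFun := fun g => ⟨a * g.1 * a⁻¹, ?_⟩
            invFun := fun g => ⟨a⁻¹ * g.1 * a, ?_⟩
            left_inv := fun g => Subtype.ext (by simp [mul_assoc])
            right_inv := fun g => Subtype.ext (by simp [mul_assoc])
            map_mul' := fun g h => Subtype.ext (by simp [mul_assoc]) }⟩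
  · intro b hb
    obtain ⟨b', hb', rfl⟩ := List.mem_map.1 hb
    rw [mul_smul, mul_smul, inv_smul_smul, g.2 b' hb']
  · intro b hb
    rw [mul_smul, mul_smul, g.2 _ (List.mem_map.2 ⟨b, hb, rfl⟩), inv_smul_smul]

/-- the class as a type. -/
def Om (bs : List ↥leechLattice) (n : ℤ) (c : List ℤ) : Type := {x : ↥leechLattice // ClsL bs n c x}

instance omAction (bs : List ↥leechLattice) (n : ℤ) (c : List ℤ) : MulAction (FixL bs) (Om bs n c) where
  smul g x := ⟨g.1 • x.1, clsL_of_mem g.2 x.2⟩
  one_smul x := Subtype.ext (one_smul _ _)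
  mul_smul g h x := Subtype.ext (mul_smul _ _ _)

theorem om_smul_val {bs : List ↥leechLattice} {n : ℤ} {c : List ℤ} (g : FixL bs) (x : Om bs n c) :
    (g • x).1 = g.1 • x.1 := rfl

/-- a table of a class. -/
structure TabData (bs : List ↥leechLattice) (Xs : List ℕ) (n : ℤ) (c : List ℤ) (cs : List ℕ)
    (N : ℕ) : Prop where
  hbs : bs.map (fun b : ↥leechLattice => (b : GolayPt → ℤ)) = Xs.map V
  htab : clsTabOK' Xs n c cs N = true
  hcard : {x | ClsQ Xs n c x}.ncard = N
  hN0 : N ≠ 0
  hn : n ≤ 64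

namespace TabData

variable {bs : List ↥leechLattice} {Xs : List ℕ} {n : ℤ} {c : List ℤ} {cs : List ℕ} {N : ℕ}

theorem spec (D : TabData bs Xs n c cs N) :
    incOK (joinChunks 19968 cs) N = true ∧ ∀ k < N, ClsQ Xs n c (V (tab (joinChunks 19968 cs) k)) ∧
      tab (joinChunks 19968 cs) k = enc (V (tab (joinChunks 19968 cs) k)) := by
  have h := D.htab
  unfold clsTabOK' at h
  rw [Cfsg.Agent.Lib.Helper54.force_eq] at h
  unfold clsTabOK at h
  rw [band_eq, Bool.and_eq_true, allBelow_iff] at h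
  exact ⟨h.1, fun k hk => clsOK_spec (h.2 k hk)⟩

/-- the `k`-th vector of the table. -/
def pt (D : TabData bs Xs n c cs N) (k : Fin N) : Om bs n c :=
  ⟨⟨V (tab (joinChunks 19968 cs) k), (D.spec.2 k k.2).1.1⟩,
    (clsL_iff_clsQ D.hbs n c _).2 (D.spec.2 k k.2).1⟩

theorem pt_val (D : TabData bs Xs n c cs N) (k : Fin N) :
    (((D.pt k).1 : ↥leechLattice) : GolayPt → ℤ) = V (tab (joinChunks 19968 cs) k) := rfl

theorem pt_bij (D : TabData bs Xs n c cs N) : Function.Bijective D.pt := by
  constructor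
  · intro i j h
    have h1 : V (tab (joinChunks 19968 cs) i) = V (tab (joinChunks 19968 cs) j) := by
      rw [← D.pt_val i, ← D.pt_val j, h]
    have h2 : tab (joinChunks 19968 cs) i = tab (joinChunks 19968 cs) j := by
      rw [(D.spec.2 i i.2).2, (D.spec.2 j j.2).2, h1]
    apply Fin.ext
    rcases Nat.lt_trichotomy i.1 j.1 with hlt | heq | hlt
    · exact absurd h2 (ne_of_lt (tab_lt_of_incOK D.spec.1 j j.2 i hlt))
    · exact heq
    · exact absurd h2.symm (ne_of_lt (tab_lt_of_incOK D.spec.1 i i.2 j hlt))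
  · intro x
    obtain ⟨k, hk, h⟩ := class_eq_tab D.htab D.hcard D.hN0 _ ((clsL_iff_clsQ D.hbs n c x.1).1 x.2)
    exact ⟨⟨k, hk⟩, Subtype.ext (Subtype.ext h.symm)⟩

/-- the numbering of the class. -/
noncomputable def e (D : TabData bs Xs n c cs N) : Fin N ≃ Om bs n c := Equiv.ofBijective D.pt D.pt_bij

/-- the permutation representation. -/
noncomputable def phi (D : TabData bs Xs n c cs N) : FixL bs →* Equiv.Perm (Fin N) :=
  (D.e.symm.permCongrHom.toMonoidHom).comp (MulAction.toPermHom (FixL bs) (Om bs n c))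

theorem phi_apply (D : TabData bs Xs n c cs N) (g : FixL bs) (k : Fin N) :
    D.phi g k = D.e.symm (g • D.pt k) := rfl

theorem hasP_phi (D : TabData bs Xs n c cs N) (g : FixL bs) (code : ℕ)
    (h : ∀ k : Fin N, ∃ hk : en code k < N, g • D.pt k = D.pt ⟨en code k, hk⟩) :
    HasP (D.phi g) code := by
  intro k
  obtain ⟨hk, h1⟩ := h k
  rw [phi_apply, h1]
  have : D.e.symm (D.pt ⟨en code k, hk⟩) = ⟨en code k, hk⟩ := D.e.symm_apply_apply _
  rw [this]

/-- the action of a certified matrix on the table is given by the code. -/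
def actOK (T8 : ℕ) (cols : List ℕ) (cs : List ℕ) (N code : ℕ) : Bool :=
  Cfsg.Agent.Lib.Helper54.force (joinChunks 19968 cs) (fun T =>
    allBelow (fun k => band (Nat.blt (en code k) N)
      (Nat.beq (appFast T8 cols (tab T k)) (tab T (en code k)))) N)

theorem hasP_gen (D : TabData bs Xs n c cs N) {T8 : ℕ} {cols : List ℕ} (h : certOK cols = true)
    (hc : colsOK T8 cols = true) (hfix : genCo0 cols h ∈ FixL bs) {code : ℕ}
    (hact : actOK T8 cols cs N code = true) : HasP (D.phi ⟨genCo0 cols h, hfix⟩) code := by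
  unfold actOK at hact
  rw [Cfsg.Agent.Lib.Helper54.force_eq, allBelow_iff] at hact
  apply D.hasP_phi
  intro k
  have h1 := hact k k.2
  rw [band_eq, Bool.and_eq_true, Nat.beq_eq] at h1
  have hk : en code k < N := Nat.le_of_ble_eq_true h1.1
  refine ⟨hk, Subtype.ext (Subtype.ext ?_)⟩
  have hnorm : sqNorm (((D.pt k).1 : ↥leechLattice) : GolayPt → ℤ) ≤ 64 := by
    rw [(D.pt k).2.1]; exact D.hn
  have h2 := appFast_genCo0 h hc (D.pt k).1 hnorm
  rw [D.pt_val, ← (D.spec.2 k k.2).2, h1.2, (D.spec.2 _ hk).2] at h2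
  have h3 : ((genCo0 cols h • (D.pt k).1 : ↥leechLattice) : GolayPt → ℤ)
      = V (tab (joinChunks 19968 cs) (en code k)) := by
    apply enc_inj (small_of_sqNorm_le (by rw [co0_sqNorm]; exact hnorm))
      (small_of_sqNorm_le (by rw [(D.spec.2 _ hk).1.2.1]; exact D.hn))
    exact h2.symm
  exact h3

end TabData

/-- a homomorphism whose image contains a subgroup of order divisible by the order of the source is an
isomorphism onto that subgroup. -/
theorem iso_of_dvd {G Γ : Type*} [Group G] [Group Γ] [Finite G] (φ : G →* Γ) (P : Subgroup Γ)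
    (hP : P ≤ φ.range) (hd : Nat.card G ∣ Nat.card P) :
    Nonempty (G ≃* P) ∧ Nat.card P = Nat.card G := by
  have : Finite φ.range := Finite.of_surjective φ.rangeRestrict φ.rangeRestrict_surjective
  have : Finite P := Finite.of_injective (Subgroup.inclusion hP) (Subgroup.inclusion_injective hP)
  have h1 : Nat.card φ.range ≤ Nat.card G :=
    Nat.card_le_card_of_surjective φ.rangeRestrict φ.rangeRestrict_surjective
  have h2 : Nat.card P ≤ Nat.card φ.range := Subgroup.card_le_of_le hP
  have h3 : Nat.card G ≤ Nat.card P := Nat.le_of_dvd Nat.card_pos hd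
  have h4 : Nat.card P = Nat.card G := by omega
  have h5 : P = φ.range := Subgroup.eq_of_le_of_card_ge hP (by omega)
  have h6 : Function.Injective φ.rangeRestrict := by
    have : Function.Bijective φ.rangeRestrict :=
      (Nat.bijective_iff_surjective_and_card _).2 ⟨φ.rangeRestrict_surjective, by omega⟩
    exact this.1
  refine ⟨?_, h4⟩
  rw [h5]
  exact ⟨MulEquiv.ofBijective φ.rangeRestrict ⟨h6, φ.rangeRestrict_surjective⟩⟩

end Cfsg.Agent.Lib.Helper92.PCY
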