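import Cfsg.Agent.Lib.Helper92.PCY.Aut

/-!
# Boolean certificates for the hypotheses of `AutSetup`
-/

set_option autoImplicit false

namespace Cfsg.Agent.Lib.Helper92.PCY

open Cfsg.Agent.Lib.Helper27
open Cfsg.Agent.Lib.Helper92

variable {n : ℕ}

theorem HasP.mul_eq {σ τ σ' τ' : Equiv.Perm (Fin n)} {a b a' b' : ℕ} (h1 : HasP σ a) (h2 : HasP τ b)
    (h1' : HasP σ' a') (h2' : HasP τ' b') (h : mulP n a b = mulP n a' b') : σ * τ = σ' * τ' :=
  (h1.mul h2).ext (h ▸ h1'.mul h2')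

theorem HasP.code_mul_eq {σ τ σ' τ' : Equiv.Perm (Fin n)} {a b a' b' : ℕ} (h1 : HasP σ a)
    (h2 : HasP τ b) (h1' : HasP σ' a') (h2' : HasP τ' b') (h : σ * τ = σ' * τ') :
    mulP n a b = mulP n a' b' :=
  (h1.mul h2).code_eq (h ▸ h1'.mul h2') (canon_mulP _ _ _) (canon_mulP _ _ _)

/-- the two generators as a sequence. -/
def two {G : Type*} (a z : G) : ℕ → G := fun j => Nat.rec a (fun _ _ => z) j

theorem genS_two {G : Type*} [Group G] (a z : G) : genS (two a z) 2 = PG a z := by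
  unfold genS PG
  congr 1
  ext x
  constructor
  · rintro ⟨j, hj, rfl⟩
    rcases j with _ | _ | j
    · exact Or.inl rfl
    · exact Or.inr rfl
    · omega
  · rintro (rfl | hx)
    · exact ⟨0, by norm_num, rfl⟩
    · exact ⟨1, by norm_num, Set.mem_singleton_iff.1 hx⟩

theorem forall_two {p : ℕ → Prop} (h0 : p 0) (h1 : p 1) : ∀ j < 2, p j := by
  intro j hj
  rcases j with _ | _ | j
  · exact h0
  · exact h1
  · omega

/-! ### order of an element -/

theorem orderOf_of_code {σ : Equiv.Perm (Fin n)} {c e p i : ℕ} (hp : p.Prime) (h : HasP σ c)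
    (he : isId n e = true) (h1 : isId n (powP n e c p) = true) (hi : i < n) (h2 : en c i ≠ i) :
    orderOf σ = p := by
  have : Fact p.Prime := ⟨hp⟩
  apply orderOf_eq_prime
  · exact (h.pow he p).eq_one h1
  · rintro rfl
    apply h2
    rw [← h ⟨i, hi⟩]
    rfl

theorem ne_one_of_code {σ : Equiv.Perm (Fin n)} {c i : ℕ} (h : HasP σ c) (hi : i < n)
    (h2 : en c i ≠ i) : σ ≠ 1 := by
  rintro rfl
  apply h2
  rw [← h ⟨i, hi⟩]
  rfl

/-! ### the centre of a listed group -/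

/-- `zc` commutes with the generators. -/
def commB (n zc : ℕ) (gc : ℕ → ℕ) (r : ℕ) : Bool :=
  allBelow (fun j => Nat.beq (mulP n zc (gc j)) (mulP n (gc j) zc)) r

theorem comm_of_commB {z : Equiv.Perm (Fin n)} {zc : ℕ} (hz : HasP z zc)
    {g : ℕ → Equiv.Perm (Fin n)} {gc : ℕ → ℕ} {r : ℕ} (hg : ∀ j < r, HasP (g j) (gc j))
    (h : commB n zc gc r = true) : ∀ t ∈ genS g r, z * t = t * z := by
  unfold commB at h
  rw [allBelow_iff] at h
  have : genS g r ≤ Subgroup.centralizer {z} := by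
    apply genS_le
    intro j hj
    rw [Subgroup.mem_centralizer_singleton_iff]
    have := h j hj
    rw [Nat.beq_eq] at this
    exact (hz.mul_eq (hg j hj) (hg j hj) hz this).symm
  intro t ht
  exact ((Subgroup.mem_centralizer_singleton_iff).1 (this ht)).symm

/-- only the entries `i0` and `kz` of the table commute with all generators. -/
def centB (n : ℕ) (gc : ℕ → ℕ) (r : ℕ) (T : ℕ → ℕ) (i0 kz N : ℕ) : Bool :=
  allBelow (fun k => bor (bor (Nat.beq k i0) (Nat.beq k kz))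
    (anyBelow (fun j => bnot (Nat.beq (mulP n (T k) (gc j)) (mulP n (gc j) (T k)))) r)) N

theorem centre_of_centB {g : ℕ → Equiv.Perm (Fin n)} {gc : ℕ → ℕ} {r : ℕ}
    (hg : ∀ j < r, HasP (g j) (gc j)) {T : ℕ → ℕ} {N i0 kz : ℕ} (hL : ListData n g r T N)
    (hid : isId n (T i0) = true) {z : Equiv.Perm (Fin n)} (hz : HasP z (T kz))
    (h : centB n gc r T i0 kz N = true) :
    ∀ s ∈ genS g r, (∀ t ∈ genS g r, s * t = t * s) → s = 1 ∨ s = z := by
  unfold centB at h
  rw [allBelow_iff] at h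
  intro s hs hc
  obtain ⟨k, hk, hsk⟩ := hL.sub s hs
  have h1 := h k hk
  rw [bor_eq, bor_eq, Bool.or_eq_true, Bool.or_eq_true, Nat.beq_eq, Nat.beq_eq, anyBelow_iff] at h1
  rcases h1 with (h1 | h1) | ⟨j, hj, h1⟩
  · left; rw [h1] at hsk; exact hsk.eq_one hid
  · right; rw [h1] at hsk; exact hsk.ext hz
  · exfalso
    rw [bnot_eq_true] at h1
    have := hsk.code_mul_eq (hg j hj) (hg j hj) hsk (hc _ (gen_mem g hj))
    rw [this, Nat.beq_refl] at h1
    exact Bool.noConfusion h1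

/-- only the entries `i0` and `kz` of the table commute with all generators (with witnesses). -/
def centC (n : ℕ) (gc : ℕ → ℕ) (r : ℕ) (T : ℕ → ℕ) (i0 kz N : ℕ) (wj wt : ℕ → ℕ) : Bool :=
  allBelow (fun k => bor (bor (Nat.beq k i0) (Nat.beq k kz))
    (band (band (Nat.blt (wj k) r) (Nat.blt (wt k) n))
      (bnot (Nat.beq (en (T k) (en (gc (wj k)) (wt k))) (en (gc (wj k)) (en (T k) (wt k))))))) N

theorem centre_of_centC {g : ℕ → Equiv.Perm (Fin n)} {gc : ℕ → ℕ} {r : ℕ}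
    (hg : ∀ j < r, HasP (g j) (gc j)) {T : ℕ → ℕ} {N i0 kz : ℕ} (hL : ListData n g r T N)
    (hid : isId n (T i0) = true) {z : Equiv.Perm (Fin n)} (hz : HasP z (T kz)) {wj wt : ℕ → ℕ}
    (h : centC n gc r T i0 kz N wj wt = true) :
    ∀ s ∈ genS g r, (∀ t ∈ genS g r, s * t = t * s) → s = 1 ∨ s = z := by
  unfold centC at h
  rw [allBelow_iff] at h
  intro s hs hc
  obtain ⟨k, hk, hsk⟩ := hL.sub s hs
  have h1 := h k hk
  rw [bor_eq, bor_eq, Bool.or_eq_true, Bool.or_eq_true, Nat.beq_eq, Nat.beq_eq, band_eq, band_eq,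
    Bool.and_eq_true, Bool.and_eq_true, bnot_eq_true] at h1
  rcases h1 with (h1 | h1) | ⟨⟨hj, ht⟩, h1⟩
  · left; rw [h1] at hsk; exact hsk.eq_one hid
  · right; rw [h1] at hsk; exact hsk.ext hz
  · exfalso
    have hj' : wj k < r := Nat.le_of_ble_eq_true hj
    have ht' : wt k < n := Nat.le_of_ble_eq_true ht
    have h2 := congrArg (fun ρ : Equiv.Perm (Fin n) => ((ρ ⟨wt k, ht'⟩ : Fin n) : ℕ))
      (hc _ (gen_mem g hj'))
    simp only [Equiv.Perm.mul_apply] at h2
    rw [hsk, hg _ hj', hg _ hj', hsk] at h2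
    rw [h2, Nat.beq_refl] at h1
    exact Bool.noConfusion h1

/-! ### conjugating the powers of `a` -/

/-- for `0 < m < p` some power of `nc` conjugates `a ^ m` to `a` or its inverse. -/
def normB (n e ac aic nc p q : ℕ) : Bool :=
  allBelow (fun m => bor (Nat.beq m 0) (anyBelow (fun j =>
    bor (Nat.beq (mulP n (powP n e nc j) (powP n e ac m)) (mulP n ac (powP n e nc j)))
      (Nat.beq (mulP n (powP n e nc j) (powP n e ac m)) (mulP n aic (powP n e nc j)))) q)) p

theorem H1_of_normB {a x0 : Equiv.Perm (Fin n)} {e ac aic nc p q : ℕ} (he : isId n e = true)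
    (ha : HasP a ac) (hai : HasP a⁻¹ aic) (hx : HasP x0 nc) {P : Subgroup (Equiv.Perm (Fin n))}
    (hxP : x0 ∈ P) (h : normB n e ac aic nc p q = true) :
    ∀ m, 0 < m → m < p → ∃ x ∈ P, x * a ^ m * x⁻¹ = a ∨ x * a ^ m * x⁻¹ = a⁻¹ := by
  unfold normB at h
  rw [allBelow_iff] at h
  intro m hm0 hmp
  have h1 := h m hmp
  rw [bor_eq, Bool.or_eq_true, Nat.beq_eq, anyBelow_iff] at h1
  rcases h1 with h1 | ⟨j, _, h1⟩
  · omega
  · refine ⟨x0 ^ j, P.pow_mem hxP j, ?_⟩
    rw [bor_eq, Bool.or_eq_true, Nat.beq_eq, Nat.beq_eq] at h1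
    rcases h1 with h1 | h1
    · left
      rw [(hx.pow he j).mul_eq (ha.pow he m) ha (hx.pow he j) h1]; group
    · right
      rw [(hx.pow he j).mul_eq (ha.pow he m) hai (hx.pow he j) h1]; group

/-! ### trivial centraliser -/

/-- `hc` fixes only `f`, and the words `W i` map `f` to `i`. -/
def centrB (n ac zc hc f : ℕ) (W : ℕ → List Bool) : Bool :=
  band (band (Nat.blt f n) (Nat.beq (en hc f) f))
    (allBelow (fun i => band (bor (Nat.beq i f) (bnot (Nat.beq (en hc i) i)))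
      (Nat.beq (tr ac zc (W i) f) i)) n)

theorem cent_of_centrB {a z : Equiv.Perm (Fin n)} {ac zc e f : ℕ} {wh : List Bool}
    {W : ℕ → List Bool} (he : isId n e = true) (ha : HasP a ac) (hz : HasP z zc)
    (h : centrB n ac zc (evC n e ac zc wh) f W = true) :
    ∀ u : Equiv.Perm (Fin n), u * a = a * u → u * z = z * u → u = 1 := by
  unfold centrB at h
  rw [band_eq, band_eq, Bool.and_eq_true, Bool.and_eq_true, allBelow_iff, Nat.beq_eq] at h
  obtain ⟨⟨hf, hff⟩, h⟩ := h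
  have hf' : f < n := Nat.le_of_ble_eq_true hf
  intro u hua huz
  have hh := hasP_ev he ha hz wh
  have hfix : ev a z wh ⟨f, hf'⟩ = ⟨f, hf'⟩ := Fin.ext (by rw [hh]; exact hff)
  -- `u` fixes `f`
  have h1 : u ⟨f, hf'⟩ = ⟨f, hf'⟩ := by
    have h2 := h (u ⟨f, hf'⟩) (u ⟨f, hf'⟩).2
    rw [band_eq, Bool.and_eq_true, bor_eq, Bool.or_eq_true, Nat.beq_eq, bnot_eq_true] at h2
    rcases h2.1 with h3 | h3
    · exact Fin.ext h3
    · exfalso
      have hc := ev_commute hua huz wh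
      have h5 : ev a z wh (u ⟨f, hf'⟩) = u ⟨f, hf'⟩ := by
        have := congrArg (fun s : Equiv.Perm (Fin n) => s ⟨f, hf'⟩) hc
        simp only [Equiv.Perm.mul_apply] at this
        rw [← this, hfix]
      rw [← hh (u ⟨f, hf'⟩), h5, Nat.beq_refl] at h3
      exact Bool.noConfusion h3
  ext1 i
  have h2 := h i i.2
  rw [band_eq, Bool.and_eq_true, Nat.beq_eq] at h2
  have h3 : ev a z (W i) ⟨f, hf'⟩ = i := Fin.ext (by rw [tr_spec ha hz]; exact h2.2)
  have hc := ev_commute hua huz (W i)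
  have := congrArg (fun s : Equiv.Perm (Fin n) => s ⟨f, hf'⟩) hc
  simp only [Equiv.Perm.mul_apply] at this
  rw [h3, h1, h3] at this
  exact this

/-! ### the main check on the class of `z` -/

/-- the `j`-th relator. -/
def nthR (l : List (List Bool × ℕ)) : ℕ → List Bool × ℕ :=
  List.rec (fun _ => ([], 0)) (fun a _ ih k => Nat.rec a (fun m _ => ih m) k) l

theorem nthR_mem (l : List (List Bool × ℕ)) (k : ℕ) : nthR l k = ([], 0) ∨ nthR l k ∈ l := by
  induction l generalizing k with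
  | nil => exact Or.inl rfl
  | cons a l ih =>
    cases k with
    | zero => exact Or.inr List.mem_cons_self
    | succ k =>
      rcases ih k with h | h
      · exact Or.inl h
      · exact Or.inr (List.mem_cons_of_mem _ h)

/-- the relators hold. -/
def relB (n ac zc : ℕ) (rels : List (List Bool × ℕ)) : Bool :=
  allList (fun wm => allBelow (fun i => Nat.beq (trp ac zc wm.1 wm.2 i) i) n) rels

theorem rel_of_relB {a z : Equiv.Perm (Fin n)} {ac zc : ℕ} (ha : HasP a ac) (hz : HasP z zc)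
    {rels : List (List Bool × ℕ)} (h : relB n ac zc rels = true) (j : ℕ) :
    ev a z (nthR rels j).1 ^ (nthR rels j).2 = 1 := by
  rcases nthR_mem rels j with h1 | h1
  · rw [h1]; rfl
  · unfold relB at h
    rw [allList_iff] at h
    have h2 := h _ h1
    rw [allBelow_iff] at h2
    ext1 i
    apply Fin.ext
    rw [trp_spec ha hz]
    have := h2 i i.2
    rwa [Nat.beq_eq] at this

/-- the candidates `a ^ i`, `a ^ i * t0`. -/
def uL (n e ac tc p : ℕ) : List ℕ :=
  Nat.rec [] (fun i ih => powP n e ac i :: mulP n (powP n e ac i) tc :: ih) p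

theorem uL_spec {a t0 : Equiv.Perm (Fin n)} {e ac tc : ℕ} (he : isId n e = true) (ha : HasP a ac)
    (ht : HasP t0 tc) (htt : t0 * t0 = 1) {P : Subgroup (Equiv.Perm (Fin n))} (haP : a ∈ P) (p : ℕ) :
    ∀ c ∈ uL n e ac tc p, ∃ u, HasP u c ∧ (u ∈ P ∨ u * t0 ∈ P) := by
  induction p with
  | zero => intro c hc; exact absurd hc (by simp [uL])
  | succ p ih =>
    intro c hc
    have : c ∈ powP n e ac p :: mulP n (powP n e ac p) tc :: uL n e ac tc p := hc
    rcases List.mem_cons.1 this with rfl | h1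
    · exact ⟨a ^ p, ha.pow he p, Or.inl (P.pow_mem haP p)⟩
    · rcases List.mem_cons.1 h1 with rfl | h2
      · refine ⟨a ^ p * t0, (ha.pow he p).mul ht, Or.inr ?_⟩
        rw [mul_assoc, htt, mul_one]; exact P.pow_mem haP p
      · exact ih c h2

/-- for every entry of the table: a relator fails or the pair is conjugate to `(a, z)`. -/
def mainB (n ac zc rc : ℕ) (rels : List (List Bool × ℕ)) (U : List ℕ) (T cj cp : ℕ → ℕ)
    (lo cnt : ℕ) : Bool :=
  allBelow (fun k' => force (T (Nat.add lo k')) (fun y =>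
    bor (band (Nat.blt (cp (Nat.add lo k')) n)
        (bnot (Nat.beq (trp rc y (nthR rels (cj (Nat.add lo k'))).1 (nthR rels (cj (Nat.add lo k'))).2
          (cp (Nat.add lo k'))) (cp (Nat.add lo k')))))
      (anyList (fun uc => band (Nat.beq (mulP n uc ac) (mulP n rc uc))
        (Nat.beq (mulP n uc zc) (mulP n y uc))) U))) cnt

theorem mainB_spec {a z r t0 : Equiv.Perm (Fin n)} {ac zc rc : ℕ} (ha : HasP a ac) (hz : HasP z zc)
    (hr : HasP r rc) {rels : List (List Bool × ℕ)} (hrel : relB n ac zc rels = true) {U : List ℕ}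
    {P : Subgroup (Equiv.Perm (Fin n))}
    (hU : ∀ c ∈ U, ∃ u, HasP u c ∧ (u ∈ P ∨ u * t0 ∈ P)) {T cj cp : ℕ → ℕ} {lo cnt : ℕ}
    (h : mainB n ac zc rc rels U T cj cp lo cnt = true) {k : ℕ} (h1 : lo ≤ k) (h2 : k < lo + cnt)
    {y : Equiv.Perm (Fin n)} (hy : HasP y (T k))
    (hw : ∀ (w : List Bool) (m : ℕ), ev a z w ^ m = 1 → ev r y w ^ m = 1) :
    ∃ u, (u ∈ P ∨ u * t0 ∈ P) ∧ u * a * u⁻¹ = r ∧ u * z * u⁻¹ = y := by
  unfold mainB at h
  rw [allBelow_iff] at h
  have h3 := h (k - lo) (by omega)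
  have e : Nat.add lo (k - lo) = k := by show lo + (k - lo) = k; omega
  rw [force_eq, e, bor_eq, Bool.or_eq_true, band_eq, Bool.and_eq_true, bnot_eq_true,
    anyList_iff] at h3
  rcases h3 with ⟨h4, h5⟩ | ⟨uc, huc, h4⟩
  · exfalso
    have h4' : cp k < n := Nat.le_of_ble_eq_true h4
    have h6 := hw _ _ (rel_of_relB ha hz hrel (cj k))
    have h7 := trp_spec hr hy (nthR rels (cj k)).1 (nthR rels (cj k)).2 ⟨cp k, h4'⟩
    rw [h6] at h7
    have h8 : trp rc (T k) (nthR rels (cj k)).1 (nthR rels (cj k)).2 (cp k) = cp k := h7.symm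
    rw [h8, Nat.beq_refl] at h5
    exact Bool.noConfusion h5
  · obtain ⟨u, hu, huP⟩ := hU uc huc
    rw [band_eq, Bool.and_eq_true, Nat.beq_eq, Nat.beq_eq] at h4
    refine ⟨u, huP, ?_, ?_⟩
    · rw [hu.mul_eq ha hr hu h4.1]; group
    · rw [hu.mul_eq hz hy hu h4.2]; group

end Cfsg.Agent.Lib.Helper92.PCY
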