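import Cfsg.Agent.Lib.Helper92.PCY.Odd

/-!
# Pointwise certificates (no products of codes are computed)
-/

set_option autoImplicit false

namespace Cfsg.Agent.Lib.Helper92.PCY

open Cfsg.Agent.Lib.Helper27
open Cfsg.Agent.Lib.Helper92

variable {n : ℕ}

/-- `c` is a code of the product. -/
def prodB (n c a b : ℕ) : Bool := allBelow (fun t => Nat.beq (en c t) (en a (en b t))) n

theorem HasP.of_prodB {σ τ : Equiv.Perm (Fin n)} {c a b : ℕ} (h1 : HasP σ a) (h2 : HasP τ b)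
    (h : prodB n c a b = true) : HasP (σ * τ) c := by
  unfold prodB at h
  rw [allBelow_iff] at h
  intro i
  have := h i i.2
  rw [Nat.beq_eq] at this
  rw [this, ← h2 i, ← h1 (τ i)]
  rfl

/-- `c'` is a code of the inverse. -/
def invB (n c c' : ℕ) : Bool :=
  allBelow (fun i => band (Nat.blt (en c' i) n) (Nat.beq (en c (en c' i)) i)) n

theorem HasP.of_invB {σ : Equiv.Perm (Fin n)} {c c' : ℕ} (h1 : HasP σ c) (h : invB n c c' = true) :
    HasP σ⁻¹ c' := by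
  unfold invB at h
  rw [allBelow_iff] at h
  intro i
  have := h i i.2
  rw [band_eq, Bool.and_eq_true, Nat.beq_eq] at this
  have h2 : en c' i < n := Nat.le_of_ble_eq_true this.1
  have h3 : σ ⟨en c' i, h2⟩ = i := Fin.ext (by rw [h1]; exact this.2)
  have h4 : σ⁻¹ i = ⟨en c' i, h2⟩ := Equiv.Perm.inv_eq_iff_eq.2 h3.symm
  rw [h4]

/-! ### a list of elements of a subgroup -/

/-- every entry is a generator times an earlier entry; `Wi` gives the inverses. -/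
def wtreeB (n : ℕ) (gc : ℕ → ℕ) (r : ℕ) (W Wi par gsel : ℕ → ℕ) (lo cnt : ℕ) : Bool :=
  allBelow (fun k' => force (Nat.add lo k') (fun k => force (W k) (fun w =>
    band (force (Wi k) (fun wi => invB n w wi))
      (bor (band (Nat.beq k 0) (isId n w))
        (band (band (Nat.blt (par k) k) (Nat.blt (gsel k) r))
          (force (gc (gsel k)) (fun g => force (W (par k)) (fun wp => prodB n w g wp)))))))) cnt

theorem wtreeB_spec {gc : ℕ → ℕ} {r : ℕ} {W Wi par gsel : ℕ → ℕ} {lo cnt : ℕ}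
    (h : wtreeB n gc r W Wi par gsel lo cnt = true) {k : ℕ} (h1 : lo ≤ k) (h2 : k < lo + cnt) :
    invB n (W k) (Wi k) = true ∧ ((k = 0 ∧ isId n (W k) = true) ∨
      (par k < k ∧ gsel k < r ∧ prodB n (W k) (gc (gsel k)) (W (par k)) = true)) := by
  unfold wtreeB at h
  rw [allBelow_iff] at h
  have h3 := h (k - lo) (by omega)
  have e : Nat.add lo (k - lo) = k := by show lo + (k - lo) = k; omega
  rw [force_eq, e, force_eq, force_eq, force_eq, force_eq, band_eq, bor_eq, band_eq, band_eq, band_eq,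
    Bool.and_eq_true, Bool.or_eq_true, Bool.and_eq_true, Bool.and_eq_true, Bool.and_eq_true,
    Nat.beq_eq] at h3
  refine ⟨h3.1, ?_⟩
  rcases h3.2 with h4 | h4
  · exact Or.inl h4
  · exact Or.inr ⟨Nat.le_of_ble_eq_true h4.1.1, Nat.le_of_ble_eq_true h4.1.2, h4.2⟩

theorem W_of_wtree {g : ℕ → Equiv.Perm (Fin n)} {gc : ℕ → ℕ} {r : ℕ}
    (hg : ∀ j < r, HasP (g j) (gc j)) {W Wi par gsel : ℕ → ℕ} {K : ℕ}
    (h : ∀ k < K, invB n (W k) (Wi k) = true ∧ ((k = 0 ∧ isId n (W k) = true) ∨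
      (par k < k ∧ gsel k < r ∧ prodB n (W k) (gc (gsel k)) (W (par k)) = true))) :
    ∀ k < K, ∃ σ ∈ genS g r, HasP σ (W k) ∧ HasP σ⁻¹ (Wi k) := by
  intro k
  induction k using Nat.strong_induction_on with
  | _ k ih =>
    intro hk
    obtain ⟨h1, h2⟩ := h k hk
    rcases h2 with ⟨-, h2⟩ | ⟨h2, h3, h4⟩
    · exact ⟨1, Subgroup.one_mem _, hasP_one h2, (hasP_one h2).of_invB h1⟩
    · obtain ⟨σ, hσ, hσ1, -⟩ := ih _ h2 (by omega)
      have h5 := (hg _ h3).of_prodB hσ1 h4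
      exact ⟨g (gsel k) * σ, Subgroup.mul_mem _ (gen_mem g h3) hσ, h5, h5.of_invB h1⟩

/-! ### the representatives -/

/-- every representative is obtained from an earlier one. -/
def repsP (n zc : ℕ) (W Wi Y par kk : ℕ → ℕ) (K lo cnt : ℕ) : Bool :=
  allBelow (fun r' => force (Nat.add lo r') (fun r =>
    bor (band (Nat.beq r 0) (Nat.beq (Y 0) zc))
      (band (band (Nat.blt (par r) r) (Nat.blt (kk r) K))
        (force (Y r) (fun y => force (W (kk r)) (fun w => force (Wi (kk r)) (fun wi =>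
          force (Y (par r)) (fun yp =>
            allBelow (fun t => Nat.beq (en y t) (en zc (en w (en yp (en wi (en zc t)))))) n)))))))) cnt

theorem repsP_spec {zc : ℕ} {W Wi Y par kk : ℕ → ℕ} {K lo cnt : ℕ}
    (h : repsP n zc W Wi Y par kk K lo cnt = true) {r : ℕ} (h1 : lo ≤ r) (h2 : r < lo + cnt) :
    (r = 0 ∧ Y 0 = zc) ∨ (par r < r ∧ kk r < K ∧ ∀ t < n,
      en (Y r) t = en zc (en (W (kk r)) (en (Y (par r)) (en (Wi (kk r)) (en zc t))))) := by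
  unfold repsP at h
  rw [allBelow_iff] at h
  have h3 := h (r - lo) (by omega)
  have e : Nat.add lo (r - lo) = r := by show lo + (r - lo) = r; omega
  rw [force_eq, e, force_eq, force_eq, force_eq, force_eq, bor_eq, Bool.or_eq_true, band_eq,
    Bool.and_eq_true, Nat.beq_eq, Nat.beq_eq, band_eq, band_eq, Bool.and_eq_true, Bool.and_eq_true,
    allBelow_iff] at h3
  rcases h3 with h3 | ⟨⟨h3, h4⟩, h5⟩
  · exact Or.inl h3
  · refine Or.inr ⟨Nat.le_of_ble_eq_true h3, Nat.le_of_ble_eq_true h4, fun t ht => ?_⟩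
    have := h5 t ht
    rwa [Nat.beq_eq] at this

theorem reps_of_repsP {z : Equiv.Perm (Fin n)} {zc : ℕ} (hz : HasP z zc) (hzz : z * z = 1)
    {P : Subgroup (Equiv.Perm (Fin n))} (hzP : z ∈ P) {W Wi Y par kk : ℕ → ℕ} {K R : ℕ}
    (hW : ∀ k < K, ∃ σ ∈ P, HasP σ (W k) ∧ HasP σ⁻¹ (Wi k))
    (h : ∀ r < R, (r = 0 ∧ Y 0 = zc) ∨ (par r < r ∧ kk r < K ∧ ∀ t < n,
      en (Y r) t = en zc (en (W (kk r)) (en (Y (par r)) (en (Wi (kk r)) (en zc t)))))) :
    ∀ r < R, ∃ x ∈ P, HasP (x * z * x⁻¹) (Y r) := by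
  have hzi : z⁻¹ = z := inv_eq_of_mul_eq_one_left hzz
  intro r
  induction r using Nat.strong_induction_on with
  | _ r ih =>
    intro hr
    rcases h r hr with ⟨rfl, h1⟩ | ⟨h2, h3, h4⟩
    · refine ⟨1, P.one_mem, ?_⟩
      rw [h1]; simpa using hz
    · obtain ⟨x, hx, hxc⟩ := ih _ h2 (by omega)
      obtain ⟨σ, hσ, hσ1, hσ2⟩ := hW _ h3
      refine ⟨z * σ * x, P.mul_mem (P.mul_mem hzP hσ) hx, ?_⟩
      have e : z * σ * x * z * (z * σ * x)⁻¹ = z * (σ * ((x * z * x⁻¹) * (σ⁻¹ * z))) := by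
        rw [mul_inv_rev, mul_inv_rev, hzi]; group
      rw [e]
      intro i
      rw [h4 i i.2, ← hz i, ← hσ2 (z i), ← hxc, ← hσ1, ← hz]
      rfl

/-! ### closure of the class under conjugation, seen on a base -/

/-- the conjugate of the `i`-th element by a generator agrees with the `jT i`-th on `pts`. -/
def closG (gc gic : ℕ) (W Wi Y sK sR jT : ℕ → ℕ) (pts : List ℕ) (M lo cnt : ℕ) : Bool :=
  allBelow (fun i' => force (Nat.add lo i') (fun i => force (jT i) (fun j =>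
    band (Nat.blt j M)
      (force (W (sK i)) (fun w => force (Wi (sK i)) (fun wi => force (Y (sR i)) (fun y =>
        force (W (sK j)) (fun w' => force (Wi (sK j)) (fun wi' => force (Y (sR j)) (fun y' =>
          allList (fun p => Nat.beq (en gc (en w (en y (en wi (en gic p))))) (en w' (en y' (en wi' p))))
            pts)))))))))) cnt

theorem closG_spec {gc gic : ℕ} {W Wi Y sK sR jT : ℕ → ℕ} {pts : List ℕ} {M lo cnt : ℕ}
    (h : closG gc gic W Wi Y sK sR jT pts M lo cnt = true) {i : ℕ} (h1 : lo ≤ i) (h2 : i < lo + cnt) :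
    jT i < M ∧ ∀ p ∈ pts, en gc (en (W (sK i)) (en (Y (sR i)) (en (Wi (sK i)) (en gic p))))
      = en (W (sK (jT i))) (en (Y (sR (jT i))) (en (Wi (sK (jT i))) p)) := by
  unfold closG at h
  rw [allBelow_iff] at h
  have h3 := h (i - lo) (by omega)
  have e : Nat.add lo (i - lo) = i := by show lo + (i - lo) = i; omega
  rw [force_eq, e, force_eq, force_eq, force_eq, force_eq, force_eq, force_eq, force_eq, band_eq,
    Bool.and_eq_true, allList_iff] at h3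
  refine ⟨Nat.le_of_ble_eq_true h3.1, fun p hp => ?_⟩
  have := h3.2 p hp
  rwa [Nat.beq_eq] at this

/-- a finite set closed under conjugation by generators is closed under conjugation. -/
theorem conj_closed_set {Γ : Type*} [Group Γ] [Finite Γ] (X : Set Γ) (S : Set Γ)
    (h : ∀ g ∈ S, ∀ ρ ∈ X, g * ρ * g⁻¹ ∈ X) : ∀ x ∈ Subgroup.closure S, ∀ ρ ∈ X, x * ρ * x⁻¹ ∈ X := by
  let K : Subgroup Γ :=
    { carrier := {x | ∀ σ, x * σ * x⁻¹ ∈ X ↔ σ ∈ X}
      one_mem' := by intro σ; simp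
      mul_mem' := by
        intro a b ha hb σ
        rw [← hb σ, ← ha (b * σ * b⁻¹)]
        simp only [mul_inv_rev, mul_assoc]
      inv_mem' := by
        intro a ha σ
        rw [← ha (a⁻¹ * σ * a⁻¹⁻¹)]
        simp [mul_assoc] }
  have hK : Subgroup.closure S ≤ K := by
    rw [Subgroup.closure_le]
    intro g hg σ
    refine ⟨fun hq => ?_, h g hg σ⟩
    have : Finite X := Set.toFinite X
    let f : X → X := fun s => ⟨g * s.1 * g⁻¹, h g hg s.1 s.2⟩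
    have hf : Function.Injective f := by
      intro a b hab
      have : g * a.1 * g⁻¹ = g * b.1 * g⁻¹ := congrArg Subtype.val hab
      exact Subtype.ext (mul_left_cancel (mul_right_cancel this))
    obtain ⟨s, hs⟩ := Finite.surjective_of_injective hf ⟨g * σ * g⁻¹, hq⟩
    have : g * s.1 * g⁻¹ = g * σ * g⁻¹ := congrArg Subtype.val hs
    rw [← mul_left_cancel (mul_right_cancel this)]
    exact s.2
  exact fun x hx ρ hρ => (hK hx ρ).2 hρ

/-- the class of `z` from the certificates. -/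
theorem class_of_checks {a z : Equiv.Perm (Fin n)} {H : Subgroup (Equiv.Perm (Fin n))}
    {ac aic zc : ℕ} {W Wi Y sK sR jA jZ : ℕ → ℕ} {pts : List ℕ} {K R M iz : ℕ}
    (ha : HasP a ac) (hai : HasP a⁻¹ aic) (hz : HasP z zc) (hzz : z * z = 1) (hHP : H ≤ PG a z)
    (hW : ∀ k < K, ∃ σ ∈ H, HasP σ (W k) ∧ HasP σ⁻¹ (Wi k))
    (hY : ∀ r < R, ∃ x ∈ PG a z, HasP (x * z * x⁻¹) (Y r)) (hp : ∀ p ∈ pts, p < n)
    (hcl : ∀ i < M, sK i < K ∧ sR i < R ∧
      (i + 1 = M ∨ fpI W Wi Y sK sR pts i < fpI W Wi Y sK sR pts (i + 1)))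
    (hbase : ∀ x ∈ PG a z, (∀ p ∈ pts, ∀ h : p < n, x ⟨p, h⟩ = ⟨p, h⟩) → x = 1)
    (hA : ∀ i < M, jA i < M ∧ ∀ p ∈ pts, en ac (en (W (sK i)) (en (Y (sR i)) (en (Wi (sK i)) (en aic p))))
      = en (W (sK (jA i))) (en (Y (sR (jA i))) (en (Wi (sK (jA i))) p)))
    (hZ : ∀ i < M, jZ i < M ∧ ∀ p ∈ pts, en zc (en (W (sK i)) (en (Y (sR i)) (en (Wi (sK i)) (en zc p))))
      = en (W (sK (jZ i))) (en (Y (sR (jZ i))) (en (Wi (sK (jZ i))) p)))
    (hiz : iz < M) (hiz1 : isId n (W (sK iz)) = true) (hiz2 : Y (sR iz) = zc) :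
    (∃ f : Fin M → Equiv.Perm (Fin n), Function.Injective f ∧
      ∀ y, (∃ x ∈ PG a z, y = x * z * x⁻¹) ↔ ∃ i, y = f i) ∧
    (∀ x ∈ PG a z, ∃ σ ∈ H, ∃ τ, ∃ r < R, HasP τ (Y r) ∧ x * z * x⁻¹ = σ * τ * σ⁻¹) := by
  have hzi : z⁻¹ = z := inv_eq_of_mul_eq_one_left hzz
  have h1 : ∀ i : Fin M, ∃ σ ∈ H, ∃ x ∈ PG a z, HasP σ (W (sK i)) ∧ HasP σ⁻¹ (Wi (sK i)) ∧
      HasP (x * z * x⁻¹) (Y (sR i)) := by
    intro i
    obtain ⟨a1, a2, -⟩ := hcl i i.2
    obtain ⟨σ, hσ, b1, b2⟩ := hW _ a1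
    obtain ⟨x, hx, b3⟩ := hY _ a2
    exact ⟨σ, hσ, x, hx, b1, b2, b3⟩
  choose σ hσ x hx hc1 hc2 hc3 using h1
  let f : Fin M → Equiv.Perm (Fin n) := fun i => σ i * (x i * z * (x i)⁻¹) * (σ i)⁻¹
  have hfP : ∀ i, f i ∈ PG a z := fun i =>
    (PG a z).mul_mem ((PG a z).mul_mem (hHP (hσ i)) ((PG a z).mul_mem ((PG a z).mul_mem (hx i)
      AutSetup.z_mem) ((PG a z).inv_mem (hx i)))) ((PG a z).inv_mem (hHP (hσ i)))
  have hval : ∀ (i : Fin M) (q : Fin n), ((f i q : Fin n) : ℕ)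
      = en (W (sK i)) (en (Y (sR i)) (en (Wi (sK i)) q)) := by
    intro i q
    rw [← hc2 i q, ← hc3 i, ← hc1 i]
    rfl
  have hinj : Function.Injective f := by
    intro i j hij
    have e : fpI W Wi Y sK sR pts i = fpI W Wi Y sK sR pts j := by
      rw [fpI_eq, fpI_eq, fpC_eq (hc1 i) (hc3 i) (hc2 i) pts hp, fpC_eq (hc1 j) (hc3 j) (hc2 j) pts hp]
      exact congrArg (fun ρ => fpP ρ pts) hij
    exact Fin.ext (inj_of_step (fun i hi => (hcl i hi).2.2) i i.2 j j.2 e)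
  -- closure under a generator
  have hgen : ∀ (g : Equiv.Perm (Fin n)) (gc gic : ℕ) (jT : ℕ → ℕ), g ∈ PG a z → HasP g gc →
      HasP g⁻¹ gic → (∀ i < M, jT i < M ∧ ∀ p ∈ pts,
        en gc (en (W (sK i)) (en (Y (sR i)) (en (Wi (sK i)) (en gic p))))
          = en (W (sK (jT i))) (en (Y (sR (jT i))) (en (Wi (sK (jT i))) p))) →
      ∀ ρ ∈ Set.range f, g * ρ * g⁻¹ ∈ Set.range f := by
    rintro g gc gic jT hgP hg hgi hT _ ⟨i, rfl⟩
    obtain ⟨hj, hpt⟩ := hT i i.2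
    refine ⟨⟨jT i, hj⟩, ?_⟩
    have hu : (f ⟨jT i, hj⟩)⁻¹ * (g * f i * g⁻¹) = 1 := by
      apply hbase
      · exact (PG a z).mul_mem ((PG a z).inv_mem (hfP _))
          ((PG a z).mul_mem ((PG a z).mul_mem hgP (hfP i)) ((PG a z).inv_mem hgP))
      · intro p hpp hpn
        rw [Equiv.Perm.mul_apply, Equiv.Perm.inv_eq_iff_eq]
        apply Fin.ext
        rw [hval ⟨jT i, hj⟩ ⟨p, hpn⟩]
        show ((g (f i (g⁻¹ ⟨p, hpn⟩)) : Fin n) : ℕ) = _
        rw [hg, hval i, hgi]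
        exact hpt p hpp
    have := congrArg (fun s => f ⟨jT i, hj⟩ * s) hu
    simp only [mul_one, mul_inv_cancel_left] at this
    exact this.symm
  have hclosed := conj_closed_set (Set.range f) {a, z} (by
    rintro g (rfl | hg)
    · exact hgen g ac aic jA AutSetup.a_mem ha hai hA
    · rw [Set.mem_singleton_iff.1 hg]
      exact hgen z zc zc jZ AutSetup.z_mem hz (hzi.symm ▸ hz) hZ)
  have hzf : z ∈ Set.range f := by
    refine ⟨⟨iz, hiz⟩, ?_⟩
    have e1 : σ ⟨iz, hiz⟩ = 1 := (hc1 ⟨iz, hiz⟩).eq_one hiz1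
    have e2 : x ⟨iz, hiz⟩ * z * (x ⟨iz, hiz⟩)⁻¹ = z := by
      have := hc3 ⟨iz, hiz⟩
      rw [hiz2] at this
      exact this.ext hz
    show σ ⟨iz, hiz⟩ * (x ⟨iz, hiz⟩ * z * (x ⟨iz, hiz⟩)⁻¹) * (σ ⟨iz, hiz⟩)⁻¹ = z
    rw [e1, e2]; simp
  refine ⟨⟨f, hinj, fun y => ⟨?_, ?_⟩⟩, ?_⟩
  · rintro ⟨u, hu, rfl⟩
    obtain ⟨i, hi⟩ := hclosed u hu z hzf
    exact ⟨i, hi.symm⟩
  · rintro ⟨i, rfl⟩
    exact ⟨σ i * x i, (PG a z).mul_mem (hHP (hσ i)) (hx i), by
      show σ i * (x i * z * (x i)⁻¹) * (σ i)⁻¹ = _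
      rw [mul_inv_rev]; group⟩
  · intro u hu
    obtain ⟨i, hi⟩ := hclosed u hu z hzf
    exact ⟨σ i, hσ i, _, sR i, (hcl i i.2).2.1, hc3 i, hi.symm⟩

end Cfsg.Agent.Lib.Helper92.PCY
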