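import Cfsg.Agent.Lib.Helper92.PCY.Chain

/-!
# Automorphisms and a class of odd size

If the class of `z` has odd size and some `2`-subgroup `Q` has centraliser `{1, z}`, every
automorphism maps `z` to a conjugate of `z`.
-/

set_option autoImplicit false

namespace Cfsg.Agent.Lib.Helper92.PCY

open Cfsg

/-- the class of `z`. -/
def ClsT {G : Type*} [Group G] (z : G) : Type _ := {y : G // ∃ x : G, y = x * z * x⁻¹}

instance clsAction {G : Type*} [Group G] (z : G) (Q : Subgroup G) : MulAction Q (ClsT z) where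
  smul q y := ⟨q.1 * y.1 * q.1⁻¹, by
    obtain ⟨x, hx⟩ := y.2
    exact ⟨q.1 * x, by rw [hx, mul_inv_rev]; group⟩⟩
  one_smul y := Subtype.ext (by show (1 : G) * y.1 * (1 : G)⁻¹ = y.1; simp)
  mul_smul q q' y := Subtype.ext (by
    show (q.1 * q'.1) * y.1 * (q.1 * q'.1)⁻¹ = q.1 * (q'.1 * y.1 * q'.1⁻¹) * q.1⁻¹
    rw [mul_inv_rev]; group)

theorem conj_of_odd_class {G : Type*} [Group G] [Finite G] (z : G)
    (hodd : ¬ 2 ∣ Nat.card (ClsT z)) (Q : Subgroup G) (hQ : IsPGroup 2 Q)
    (hQc : ∀ t : G, (∀ q ∈ Q, t * q = q * t) → t = 1 ∨ t = z) (hz1 : z ≠ 1) (α : MulAut G) :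
    ∃ x : G, α z = x * z * x⁻¹ := by
  have : Fact (Nat.Prime 2) := ⟨Nat.prime_two⟩
  have hcard : Nat.card (ClsT (α z)) = Nat.card (ClsT z) := by
    refine Nat.card_congr ⟨fun y => ⟨α.symm y.1, ?_⟩, fun y => ⟨α y.1, ?_⟩, fun y => ?_, fun y => ?_⟩
    · obtain ⟨x, hx⟩ := y.2
      exact ⟨α.symm x, by rw [hx]; simp⟩
    · obtain ⟨x, hx⟩ := y.2
      exact ⟨α x, by rw [hx]; simp⟩
    · exact Subtype.ext (by simp)
    · exact Subtype.ext (by simp)
  have : Finite (ClsT (α z)) := Subtype.finite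
  obtain ⟨t, ht⟩ := IsPGroup.nonempty_fixed_point_of_prime_not_dvd_card hQ (ClsT (α z))
    (by rw [hcard]; exact hodd)
  obtain ⟨x, hx⟩ := t.2
  have hcomm : ∀ q ∈ Q, t.1 * q = q * t.1 := by
    intro q hq
    have h1 := congrArg Subtype.val (ht ⟨q, hq⟩)
    have h2 : q * t.1 * q⁻¹ = t.1 := h1
    calc t.1 * q = (q * t.1 * q⁻¹) * q := by rw [h2]
      _ = q * t.1 := by group
  rcases hQc t.1 hcomm with h | h
  · exfalso
    rw [h] at hx
    have h3 : α z = 1 := by
      have := congrArg (fun s => x⁻¹ * s * x) hx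
      simp only [mul_one, inv_mul_cancel] at this
      rw [this]; group
    exact hz1 (α.injective (by rw [h3, map_one]))
  · refine ⟨x⁻¹, ?_⟩
    have e : z = x * α z * x⁻¹ := h.symm.trans hx
    calc α z = x⁻¹ * (x * α z * x⁻¹) * x⁻¹⁻¹ := by group
      _ = x⁻¹ * z * x⁻¹⁻¹ := by rw [← e]

/-- the hypotheses. -/
structure AutSetup3 {Γ : Type*} [Group Γ] (a z : Γ) (p M : ℕ) (Q : Subgroup Γ) : Prop where
  fin : Finite (PG a z)
  pp : p.Prime
  oa : orderOf a = p
  hp2 : ¬ p ^ 2 ∣ Nat.card (PG a z)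
  hQP : Q ≤ PG a z
  hQ2 : IsPGroup 2 Q
  hQc : ∀ t ∈ PG a z, (∀ q ∈ Q, t * q = q * t) → t = 1 ∨ t = z
  z1 : z ≠ 1
  hM : ¬ 2 ∣ M
  hcls : ∃ f : Fin M → Γ, Function.Injective f ∧
    ∀ y : Γ, (∃ x ∈ PG a z, y = x * z * x⁻¹) ↔ ∃ i, y = f i
  H2 : ∀ (m : ℕ) (y : Γ), 0 < m → m < p → (∃ x ∈ PG a z, y = x * z * x⁻¹) →
    (∀ (w : List Bool) (mm : ℕ), ev a z w ^ mm = 1 → ev (a ^ m) y w ^ mm = 1) →
    ∃ u ∈ PG a z, u * a * u⁻¹ = a ^ m ∧ u * z * u⁻¹ = y

namespace AutSetup3

variable {Γ : Type*} [Group Γ] {a z : Γ} {p M : ℕ} {Q : Subgroup Γ}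

theorem card_cls (h : AutSetup3 a z p M Q) :
    Nat.card (ClsT (⟨z, AutSetup.z_mem⟩ : PG a z)) = M := by
  obtain ⟨f, hf, hcl⟩ := h.hcls
  have h1 : ∀ i, ∃ x ∈ PG a z, f i = x * z * x⁻¹ := fun i => (hcl (f i)).2 ⟨i, rfl⟩
  have hmem : ∀ i, f i ∈ PG a z := by
    intro i
    obtain ⟨x, hx, e⟩ := h1 i
    rw [e]
    exact (PG a z).mul_mem ((PG a z).mul_mem hx AutSetup.z_mem) ((PG a z).inv_mem hx)
  let g : Fin M → ClsT (⟨z, AutSetup.z_mem⟩ : PG a z) := fun i => ⟨⟨f i, hmem i⟩, by
    obtain ⟨x, hx, e⟩ := h1 i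
    exact ⟨⟨x, hx⟩, Subtype.ext e⟩⟩
  have hg : Function.Bijective g := by
    constructor
    · intro i j e
      exact hf (congrArg (fun s : ClsT (⟨z, AutSetup.z_mem⟩ : PG a z) => (s.1.1 : Γ)) e)
    · rintro ⟨y, x, hx⟩
      obtain ⟨i, hi⟩ := (hcl y.1).1 ⟨x.1, x.2, congrArg Subtype.val hx⟩
      exact ⟨i, Subtype.ext (Subtype.ext hi.symm)⟩
  rw [← Nat.card_congr (Equiv.ofBijective g hg), Nat.card_fin]

/-- every automorphism is inner. -/
theorem inner (h : AutSetup3 a z p M Q) (α : MulAut (PG a z)) : α ∈ Cfsg.Inn (PG a z) := by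
  have := h.fin
  have : Fact p.Prime := ⟨h.pp⟩
  let aP : (PG a z) := ⟨a, AutSetup.a_mem⟩
  let zP : (PG a z) := ⟨z, AutSetup.z_mem⟩
  have hoa : orderOf aP = p := by rw [← h.oa]; exact Subgroup.orderOf_mk a AutSetup.a_mem
  obtain ⟨x3, m, hm0, hmp, hx1⟩ := exists_conj_pow h.hp2
    (x := α aP) (y := aP) (by rw [MulEquiv.orderOf_eq, hoa]) hoa
  let β : MulAut (PG a z) := MulAut.conj x3 * α
  have hβ : ∀ x, β x = x3 * α x * x3⁻¹ := fun x => rfl
  have hβa : ((β aP : (PG a z)) : Γ) = a ^ m := by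
    rw [hβ, hx1]
    rfl
  obtain ⟨x4, hx4⟩ := conj_of_odd_class zP (by rw [h.card_cls]; exact h.hM) (Q.subgroupOf (PG a z))
    (h.hQ2.comap_subtype) (fun t ht => by
      rcases h.hQc t.1 t.2 (fun q hq =>
        congrArg Subtype.val (ht ⟨q, h.hQP hq⟩ (Subgroup.mem_subgroupOf.2 hq))) with e | e
      · exact Or.inl (Subtype.ext e)
      · exact Or.inr (Subtype.ext e)) (fun e => h.z1 (congrArg Subtype.val e)) β
  have hy : ∃ x ∈ (PG a z), ((β zP : (PG a z)) : Γ) = x * z * x⁻¹ :=
    ⟨x4.1, x4.2, by rw [hx4]; rfl⟩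
  have hrel : ∀ (w : List Bool) (mm : ℕ), ev a z w ^ mm = 1 →
      ev (a ^ m) ((β zP : (PG a z)) : Γ) w ^ mm = 1 := by
    intro w mm hw
    have e1 : ev aP zP w ^ mm = 1 := by
      apply Subtype.ext
      have := map_ev (PG a z).subtype aP zP w
      rw [Subgroup.coe_pow]
      have e2 : ((ev aP zP w : (PG a z)) : Γ) = ev a z w := this
      rw [e2, hw]; rfl
    have e3 := congrArg (fun x => ((β x : (PG a z)) : Γ)) e1
    simp only [map_pow, map_one, Subgroup.coe_pow, Subgroup.coe_one] at e3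
    have e4 : ((β (ev aP zP w) : (PG a z)) : Γ) = ev ((β aP : (PG a z)) : Γ) ((β zP : (PG a z)) : Γ) w :=
      map_ev ((PG a z).subtype.comp β.toMonoidHom) aP zP w
    rw [← hβa, ← e4]; exact e3
  obtain ⟨u, hu, hua, huz⟩ := h.H2 m _ hm0 hmp hy hrel
  have hβu : ∀ x : (PG a z), ((β x : (PG a z)) : Γ) = u * x * u⁻¹ := by
    have := hom_ext_closure ((PG a z).subtype.comp β.toMonoidHom)
      ((MulAut.conj u).toMonoidHom.comp (PG a z).subtype) (by
        rintro x (rfl | hx)
        · exact hβa.trans hua.symm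
        · have hx' := Set.mem_singleton_iff.1 hx
          subst hx'
          exact huz.symm)
    exact fun x => DFunLike.congr_fun this x
  refine ⟨x3⁻¹ * ⟨u, hu⟩, ?_⟩
  ext x
  have e : α x = x3⁻¹ * β x * x3 := by rw [hβ]; group
  rw [e, Subgroup.coe_mul, Subgroup.coe_mul, hβu, Subgroup.coe_inv]
  simp [MulAut.conj_apply, mul_assoc]

theorem card_out (h : AutSetup3 a z p M Q) : Nat.card (Cfsg.Out (PG a z)) = 1 := by
  show (Cfsg.Inn (PG a z)).index = 1
  rw [Subgroup.index_eq_one, eq_top_iff]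
  exact fun α _ => h.inner α

end AutSetup3

/-! ### groups generated by elements commuting modulo a central involution -/

theorem genS_succ {Γ : Type*} [Group Γ] (g : ℕ → Γ) (r : ℕ) :
    genS g (r + 1) = Subgroup.zpowers (g r) ⊔ genS g r := by
  apply le_antisymm
  · apply genS_le
    intro j hj
    rcases Nat.lt_succ_iff_lt_or_eq.1 hj with h | h
    · exact (le_sup_right : genS g r ≤ _) (gen_mem g h)
    · rw [h]; exact (le_sup_left : Subgroup.zpowers (g r) ≤ _) (Subgroup.mem_zpowers _)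
  · rw [sup_le_iff]
    constructor
    · rw [Subgroup.zpowers_le]; exact gen_mem g (by omega)
    · exact genS_le (fun j hj => gen_mem g (by omega))

theorem isPGroup_genS {Γ : Type*} [Group Γ] (g : ℕ → Γ) (z : Γ) (hz0 : g 0 = z) (hzz : z * z = 1)
    (r : ℕ) (hzc : ∀ j < r, z * g j = g j * z) (hsq : ∀ j < r, g j * g j = 1 ∨ g j * g j = z)
    (hcomm : ∀ j < r, ∀ i < j, g j * g i = g i * g j ∨ g j * g i = z * (g i * g j)) :
    IsPGroup 2 (genS g r) := by
  induction r with
  | zero =>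
    have : genS g 0 = ⊥ := by
      rw [eq_bot_iff]
      exact genS_le (fun j hj => absurd hj (Nat.not_lt_zero j))
    rw [this]
    exact IsPGroup.of_bot
  | succ r ih =>
    have ih' := ih (fun j hj => hzc j (by omega)) (fun j hj => hsq j (by omega))
      (fun j hj => hcomm j (by omega))
    rw [genS_succ]
    have h4 : g r ^ 4 = 1 := by
      have e : g r ^ 4 = (g r * g r) * (g r * g r) := by
        rw [show (4 : ℕ) = 2 + 2 from rfl, pow_add, pow_two]
      rcases hsq r (by omega) with h | h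
      · rw [e, h, one_mul]
      · rw [e, h, hzz]
    have hZ : IsPGroup 2 (Subgroup.zpowers (g r)) := by
      rw [IsPGroup.iff_orderOf]
      intro x
      have hx : x ^ 4 = 1 := by
        obtain ⟨i, hi⟩ := Subgroup.mem_zpowers_iff.1 x.2
        apply Subtype.ext
        rw [Subgroup.coe_pow, ← hi, ← zpow_natCast, ← zpow_mul, mul_comm, zpow_mul, zpow_natCast, h4,
          one_zpow]
        rfl
      have hd : orderOf x ∣ 2 ^ 2 := orderOf_dvd_of_pow_eq_one hx
      obtain ⟨k, _, hk⟩ := (Nat.dvd_prime_pow Nat.prime_two).1 hd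
      exact ⟨k, hk⟩
    apply hZ.to_sup_of_normal_right' ih'
    -- `g r` normalises
    have hzi : z⁻¹ = z := inv_eq_of_mul_eq_one_left hzz
    let K : Subgroup Γ :=
      { carrier := {s | ∀ h ∈ genS g r, s * h * s⁻¹ ∈ genS g r ∧ s⁻¹ * h * s ∈ genS g r}
        one_mem' := fun h hh => by simpa using hh
        mul_mem' := by
          intro s t hs ht h hh
          constructor
          · have := (hs _ (ht h hh).1).1
            simpa [mul_assoc] using this
          · have := (ht _ (hs h hh).2).2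
            simpa [mul_assoc] using this
        inv_mem' := by
          intro s hs h hh
          have := hs h hh
          exact ⟨by simpa using this.2, by simpa using this.1⟩ }
    have hgK : g r ∈ K := by
      have key : ∀ i < r, g r * g i * (g r)⁻¹ ∈ genS g r ∧ (g r)⁻¹ * g i * g r ∈ genS g r := by
        intro i hi
        have hzm : z ∈ genS g r := hz0 ▸ gen_mem g (by omega)
        have him : g i ∈ genS g r := gen_mem g hi
        rcases hcomm r (by omega) i hi with h | h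
        · constructor
          · rw [h]; simpa using him
          · rw [mul_assoc, ← h]; simpa using him
        · constructor
          · rw [h]
            have : z * (g i * g r) * (g r)⁻¹ = z * g i := by group
            rw [this]; exact Subgroup.mul_mem _ hzm him
          · have e : g i * g r = z * (g r * g i) := by
              rw [h, ← mul_assoc, hzz, one_mul]
            have e2 : z * g r = g r * z := hzc r (by omega)
            have : (g r)⁻¹ * g i * g r = z * g i := by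
              rw [mul_assoc, e, ← mul_assoc z, e2]; group
            rw [this]; exact Subgroup.mul_mem _ hzm him
      have h1 : genS g r ≤ (genS g r).comap (MulAut.conj (g r)).toMonoidHom :=
        genS_le (fun i hi => (key i hi).1)
      have h2 : genS g r ≤ (genS g r).comap (MulAut.conj (g r)⁻¹).toMonoidHom :=
        genS_le (fun i hi => by
          have := (key i hi).2
          show (g r)⁻¹ * g i * (g r)⁻¹⁻¹ ∈ genS g r
          rwa [inv_inv])
      intro h hh
      refine ⟨h1 hh, ?_⟩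
      have := h2 hh
      have e : (g r)⁻¹ * h * (g r)⁻¹⁻¹ ∈ genS g r := this
      rwa [inv_inv] at e
    rw [Subgroup.le_normalizer_iff]
    intro s hs k hk
    have : Subgroup.zpowers (g r) ≤ K := by rw [Subgroup.zpowers_le]; exact hgK
    exact (this hs k hk).1

end Cfsg.Agent.Lib.Helper92.PCY
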