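import Cfsg.Agent.Lib.Helper92.PCY.QC

/-!
# Two-generator groups `P = ⟨a, z⟩` with outer automorphism group of order two

As in `Odd`, with an element `t0` of the ambient group normalising `P`.
-/

set_option autoImplicit false

namespace Cfsg.Agent.Lib.Helper92.PCY

open Cfsg
open Cfsg.Agent.Lib.Helper27
open Cfsg.Agent.Lib.Helper92

/-- in a finite subgroup, conjugation into the subgroup is onto. -/
theorem conj_inv_mem {Γ : Type*} [Group Γ] {P : Subgroup Γ} [Finite P] {s : Γ}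
    (h : ∀ x ∈ P, s * x * s⁻¹ ∈ P) : ∀ x ∈ P, s⁻¹ * x * s ∈ P := by
  have hle : P.map (MulAut.conj s).toMonoidHom ≤ P := by
    rintro _ ⟨x, hx, rfl⟩
    exact h x hx
  have hcard : Nat.card (P.map (MulAut.conj s).toMonoidHom) = Nat.card P :=
    Nat.card_congr (P.equivMapOfInjective (MulAut.conj s).toMonoidHom (MulAut.conj s).injective).toEquiv.symm
  have heq := Subgroup.eq_of_le_of_card_ge hle (by rw [hcard])
  intro x hx
  rw [← heq] at hx
  obtain ⟨y, hy, rfl⟩ := hx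
  have e : s⁻¹ * (MulAut.conj s).toMonoidHom y * s = y := by
    show s⁻¹ * (s * y * s⁻¹) * s = y
    group
  rw [e]; exact hy

theorem conj_mem_of_gens {Γ : Type*} [Group Γ] {a z s : Γ} (ha : s * a * s⁻¹ ∈ PG a z)
    (hz : s * z * s⁻¹ ∈ PG a z) : ∀ x ∈ PG a z, s * x * s⁻¹ ∈ PG a z := by
  have : (PG a z) ≤ (PG a z).comap (MulAut.conj s).toMonoidHom := by
    rw [Subgroup.closure_le]
    rintro x (rfl | hx)
    · exact ha
    · rw [Set.mem_singleton_iff.1 hx]; exact hz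
  exact fun x hx => this hx

/-- the hypotheses. -/
structure AutSetup4 {Γ : Type*} [Group Γ] (a z t0 : Γ) (p M : ℕ) (Q : Subgroup Γ) : Prop where
  fin : Finite (PG a z)
  pp : p.Prime
  oa : orderOf a = p
  hp2 : ¬ p ^ 2 ∣ Nat.card (PG a z)
  hQP : Q ≤ PG a z
  hQ2 : IsPGroup 2 Q
  hQc : ∀ t ∈ PG a z, (∀ q ∈ Q, t * q = q * t) → t = 1 ∨ t = z
  z1 : z ≠ 1
  hM : ¬ 2 ∣ M
  hcls : ∃ f : Fin M → Γ, Function.Injective f ∧
    ∀ y : Γ, (∃ x ∈ PG a z, y = x * z * x⁻¹) ↔ ∃ i, y = f i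
  tn : ∀ x ∈ PG a z, t0 * x * t0⁻¹ ∈ PG a z
  tn' : ∀ x ∈ PG a z, t0⁻¹ * x * t0 ∈ PG a z
  t2 : t0 * t0 ∈ PG a z
  cent : ∀ u : Γ, u * t0 ∈ PG a z → u * a = a * u → u * z = z * u → False
  H2 : ∀ (m : ℕ) (y : Γ), 0 < m → m < p → (∃ x ∈ PG a z, y = x * z * x⁻¹) →
    (∀ (w : List Bool) (mm : ℕ), ev a z w ^ mm = 1 → ev (a ^ m) y w ^ mm = 1) →
    ∃ u, (u ∈ PG a z ∨ u * t0 ∈ PG a z) ∧ u * a * u⁻¹ = a ^ m ∧ u * z * u⁻¹ = y

namespace AutSetup4

variable {Γ : Type*} [Group Γ] {a z t0 : Γ} {p M : ℕ} {Q : Subgroup Γ}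

theorem tout (h : AutSetup4 a z t0 p M Q) : t0 ∉ PG a z := fun ht =>
  h.cent 1 (by rw [one_mul]; exact ht) (by simp) (by simp)

theorem card_cls (h : AutSetup4 a z t0 p M Q) :
    Nat.card (ClsT (⟨z, AutSetup.z_mem⟩ : PG a z)) = M := by
  obtain ⟨f, hf, hcl⟩ := h.hcls
  have h1 : ∀ i, ∃ x ∈ PG a z, f i = x * z * x⁻¹ := fun i => (hcl (f i)).2 ⟨i, rfl⟩
  have hmem : ∀ i, f i ∈ PG a z := by
    intro i
    obtain ⟨x, hx, e⟩ := h1 i
    rw [e]
    exact (PG a z).mul_mem ((PG a z).mul_mem hx AutSetup.z_mem) ((PG a z).inv_mem hx)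
  let g : Fin M → ClsT (⟨z, AutSetup.z_mem⟩ : PG a z) := fun i => ⟨⟨f i, hmem i⟩, by
    obtain ⟨x, hx, e⟩ := h1 i
    exact ⟨⟨x, hx⟩, Subtype.ext e⟩⟩
  have hg : Function.Bijective g := by
    constructor
    · intro i j e
      exact hf (congrArg (fun s : ClsT (⟨z, AutSetup.z_mem⟩ : PG a z) => (s.1.1 : Γ)) e)
    · rintro ⟨y, x, hx⟩
      obtain ⟨i, hi⟩ := (hcl y.1).1 ⟨x.1, x.2, congrArg Subtype.val hx⟩
      exact ⟨i, Subtype.ext (Subtype.ext hi.symm)⟩
  rw [← Nat.card_congr (Equiv.ofBijective g hg), Nat.card_fin]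

/-- every automorphism is conjugation by an element of `P ∪ P t0⁻¹`. -/
theorem exists_conj (h : AutSetup4 a z t0 p M Q) (α : MulAut (PG a z)) :
    ∃ v, (v ∈ (PG a z) ∨ v * t0 ∈ (PG a z)) ∧ ∀ x : (PG a z), ((α x : (PG a z)) : Γ) = v * x * v⁻¹ := by
  have := h.fin
  have : Fact p.Prime := ⟨h.pp⟩
  let aP : (PG a z) := ⟨a, AutSetup.a_mem⟩
  let zP : (PG a z) := ⟨z, AutSetup.z_mem⟩
  have hoa : orderOf aP = p := by rw [← h.oa]; exact Subgroup.orderOf_mk a AutSetup.a_mem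
  obtain ⟨x3, m, hm0, hmp, hx1⟩ := exists_conj_pow h.hp2
    (x := α aP) (y := aP) (by rw [MulEquiv.orderOf_eq, hoa]) hoa
  let β : MulAut (PG a z) := MulAut.conj x3 * α
  have hβ : ∀ x, β x = x3 * α x * x3⁻¹ := fun x => rfl
  have hβa : ((β aP : (PG a z)) : Γ) = a ^ m := by
    rw [hβ, hx1]
    rfl
  obtain ⟨x4, hx4⟩ := conj_of_odd_class zP (by rw [h.card_cls]; exact h.hM) (Q.subgroupOf (PG a z))
    (h.hQ2.comap_subtype) (fun t ht => by
      rcases h.hQc t.1 t.2 (fun q hq =>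
        congrArg Subtype.val (ht ⟨q, h.hQP hq⟩ (Subgroup.mem_subgroupOf.2 hq))) with e | e
      · exact Or.inl (Subtype.ext e)
      · exact Or.inr (Subtype.ext e)) (fun e => h.z1 (congrArg Subtype.val e)) β
  have hy : ∃ x ∈ (PG a z), ((β zP : (PG a z)) : Γ) = x * z * x⁻¹ :=
    ⟨x4.1, x4.2, by rw [hx4]; rfl⟩
  have hrel : ∀ (w : List Bool) (mm : ℕ), ev a z w ^ mm = 1 →
      ev (a ^ m) ((β zP : (PG a z)) : Γ) w ^ mm = 1 := by
    intro w mm hw
    have e1 : ev aP zP w ^ mm = 1 := by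
      apply Subtype.ext
      have := map_ev (PG a z).subtype aP zP w
      rw [Subgroup.coe_pow]
      have e2 : ((ev aP zP w : (PG a z)) : Γ) = ev a z w := this
      rw [e2, hw]; rfl
    have e3 := congrArg (fun x => ((β x : (PG a z)) : Γ)) e1
    simp only [map_pow, map_one, Subgroup.coe_pow, Subgroup.coe_one] at e3
    have e4 : ((β (ev aP zP w) : (PG a z)) : Γ) = ev ((β aP : (PG a z)) : Γ) ((β zP : (PG a z)) : Γ) w :=
      map_ev ((PG a z).subtype.comp β.toMonoidHom) aP zP w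
    rw [← hβa, ← e4]; exact e3
  obtain ⟨u, hu, hua, huz⟩ := h.H2 m _ hm0 hmp hy hrel
  have hβu : ∀ x : (PG a z), ((β x : (PG a z)) : Γ) = u * x * u⁻¹ := by
    have := hom_ext_closure ((PG a z).subtype.comp β.toMonoidHom)
      ((MulAut.conj u).toMonoidHom.comp (PG a z).subtype) (by
        rintro x (rfl | hx)
        · exact hβa.trans hua.symm
        · have hx' := Set.mem_singleton_iff.1 hx
          subst hx'
          exact huz.symm)
    exact fun x => DFunLike.congr_fun this x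
  refine ⟨x3.1⁻¹ * u, ?_, fun x => ?_⟩
  · rcases hu with hu | hu
    · exact Or.inl ((PG a z).mul_mem ((PG a z).inv_mem x3.2) hu)
    · right
      rw [mul_assoc]
      exact (PG a z).mul_mem ((PG a z).inv_mem x3.2) hu
  · have e : α x = x3⁻¹ * β x * x3 := by rw [hβ]; group
    rw [e, Subgroup.coe_mul, Subgroup.coe_mul, hβu, Subgroup.coe_inv]
    group

theorem inner_iff (h : AutSetup4 a z t0 p M Q) (α : MulAut (PG a z)) (v : Γ)
    (hvP : v ∈ (PG a z) ∨ v * t0 ∈ (PG a z))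
    (hv : ∀ x : (PG a z), ((α x : (PG a z)) : Γ) = v * x * v⁻¹) : α ∈ Cfsg.Inn (PG a z) ↔ v ∈ (PG a z) := by
  constructor
  · rintro ⟨q, rfl⟩
    rcases hvP with hvP | hvP
    · exact hvP
    · exfalso
      have key : ∀ x ∈ (PG a z), (q.1⁻¹ * v) * x = x * (q.1⁻¹ * v) := by
        intro x hx
        have h1 := hv ⟨x, hx⟩
        simp only [MulAut.conj_apply, Subgroup.coe_mul, Subgroup.coe_inv] at h1
        have h2 : v * x = q.1 * x * q.1⁻¹ * v := by rw [h1]; group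
        calc q.1⁻¹ * v * x = q.1⁻¹ * (v * x) := by group
          _ = x * (q.1⁻¹ * v) := by rw [h2]; group
      exact h.cent (q.1⁻¹ * v) (by rw [mul_assoc]; exact (PG a z).mul_mem ((PG a z).inv_mem q.2) hvP)
        (key a AutSetup.a_mem) (key z AutSetup.z_mem)
  · intro hs
    refine ⟨⟨v, hs⟩, ?_⟩
    ext x
    rw [hv x]
    simp [MulAut.conj_apply]

theorem card_out (h : AutSetup4 a z t0 p M Q) : Nat.card (Cfsg.Out (PG a z)) = 2 := by
  show (Cfsg.Inn (PG a z)).index = 2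
  rw [Subgroup.index_eq_two_iff]
  refine ⟨cAut t0 h.tn h.tn', fun α => ?_⟩
  obtain ⟨v, hvP, hv⟩ := h.exists_conj α
  have e1 := h.inner_iff α v hvP hv
  have e2 : α * cAut t0 h.tn h.tn' ∈ Cfsg.Inn (PG a z) ↔ v * t0 ∈ (PG a z) := by
    apply h.inner_iff
    · rcases hvP with hs | hs
      · right
        rw [mul_assoc]
        exact (PG a z).mul_mem hs h.t2
      · exact Or.inl hs
    · intro x
      rw [MulAut.mul_apply, hv]
      show v * (t0 * x * t0⁻¹) * v⁻¹ = _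
      group
  rw [e1, e2]
  rcases hvP with hs | hs
  · right
    refine ⟨hs, fun hc => h.tout ?_⟩
    have := (PG a z).mul_mem ((PG a z).inv_mem hs) hc
    simpa using this
  · left
    refine ⟨hs, fun hc => h.tout ?_⟩
    have := (PG a z).mul_mem ((PG a z).inv_mem hc) hs
    simpa using this

end AutSetup4

/-! ### blocks -/

variable {n : ℕ}

/-- the permutations preserving the set of the first `n1` points. -/
def blkS (n n1 : ℕ) : Subgroup (Equiv.Perm (Fin n)) where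
  carrier := {x | ∀ i : Fin n, ((x i : Fin n) : ℕ) < n1 ↔ (i : ℕ) < n1}
  one_mem' := fun _ => Iff.rfl
  mul_mem' := fun {x y} hx hy i => (hx (y i)).trans (hy i)
  inv_mem' := fun {x} hx i => by
    have := hx (x⁻¹ i)
    have e : x (x⁻¹ i) = i := by simp
    rw [e] at this
    exact this.symm

def blkB (n n1 c : ℕ) : Bool :=
  allBelow (fun i => bor (band (Nat.blt i n1) (Nat.blt (en c i) n1))
    (band (Nat.ble n1 i) (Nat.ble n1 (en c i)))) n

theorem mem_blkS {σ : Equiv.Perm (Fin n)} {c n1 : ℕ} (h : HasP σ c) (hb : blkB n n1 c = true) :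
    σ ∈ blkS n n1 := by
  unfold blkB at hb
  rw [allBelow_iff] at hb
  intro i
  have h1 := hb i i.2
  rw [bor_eq, band_eq, band_eq, Bool.or_eq_true, Bool.and_eq_true, Bool.and_eq_true] at h1
  rw [h i]
  rcases h1 with ⟨h1, h2⟩ | ⟨h1, h2⟩
  · have a1 : (i : ℕ) < n1 := Nat.le_of_ble_eq_true h1
    have a2 : en c i < n1 := Nat.le_of_ble_eq_true h2
    exact ⟨fun _ => a1, fun _ => a2⟩
  · have a1 : n1 ≤ (i : ℕ) := Nat.le_of_ble_eq_true h1
    have a2 : n1 ≤ en c i := Nat.le_of_ble_eq_true h2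
    exact ⟨fun h => absurd h (by omega), fun h => absurd h (by omega)⟩

theorem PG_le_blkS {a z : Equiv.Perm (Fin n)} {ac zc n1 : ℕ} (ha : HasP a ac) (hz : HasP z zc)
    (h1 : blkB n n1 ac = true) (h2 : blkB n n1 zc = true) : PG a z ≤ blkS n n1 := by
  unfold PG
  rw [Subgroup.closure_le]
  rintro x (rfl | hx)
  · exact mem_blkS ha h1
  · rw [Set.mem_singleton_iff.1 hx]; exact mem_blkS hz h2

/-! ### no element of the other coset centralises -/

/-- every point outside the block is moved by one of the first `ρ` permutations, which fix `ω`. -/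
def outB (n n1 : ℕ) (gc : ℕ → ℕ) (ρ ω : ℕ) (wj : ℕ → ℕ) : Bool :=
  band (allBelow (fun j => Nat.beq (en (gc j) ω) ω) ρ)
    (allBelow (fun x => bor (Nat.blt x n1)
      (band (Nat.blt (wj x) ρ) (bnot (Nat.beq (en (gc (wj x)) x) x)))) n)

theorem cent_of_outB {a z s : Equiv.Perm (Fin n)} {sc n1 ω ρ : ℕ} (hs : HasP s sc)
    (hblk : PG a z ≤ blkS n n1) {g : ℕ → Equiv.Perm (Fin n)} {gc : ℕ → ℕ}
    (hg : ∀ j < ρ, HasP (g j) (gc j)) (hgP : ∀ j < ρ, g j ∈ PG a z) (hω : ω < n)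
    (hsω : n1 ≤ en sc ω) {wj : ℕ → ℕ} (h : outB n n1 gc ρ ω wj = true) :
    ∀ u : Equiv.Perm (Fin n), u * s⁻¹ ∈ PG a z → u * a = a * u → u * z = z * u → False := by
  unfold outB at h
  rw [band_eq, Bool.and_eq_true, allBelow_iff, allBelow_iff] at h
  obtain ⟨h1, h2⟩ := h
  intro u hu hua huz
  have hcomm := comm_closure hua huz
  let Ω : Fin n := ⟨ω, hω⟩
  -- `u Ω` is outside the block
  have e1 : u Ω = (u * s⁻¹) (s Ω) := by simp
  have h3 : ¬ ((u Ω : Fin n) : ℕ) < n1 := by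
    rw [e1, hblk hu (s Ω), hs Ω]
    show ¬ en sc ω < n1
    omega
  have h4 := h2 (u Ω) (u Ω).2
  rw [bor_eq, Bool.or_eq_true, band_eq, Bool.and_eq_true, bnot_eq_true] at h4
  rcases h4 with h4 | ⟨h4, h5⟩
  · exact h3 (Nat.le_of_ble_eq_true h4)
  · have hj : wj (u Ω) < ρ := Nat.le_of_ble_eq_true h4
    have e2 : g (wj (u Ω)) Ω = Ω := Fin.ext (by
      rw [hg _ hj]
      have := h1 _ hj
      rwa [Nat.beq_eq] at this)
    have e3 : g (wj (u Ω)) (u Ω) = u Ω := by
      have := congrArg (fun σ : Equiv.Perm (Fin n) => σ Ω) (hcomm _ (hgP _ hj))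
      simp only [Equiv.Perm.mul_apply] at this
      rw [← this, e2]
    have e4 : en (gc (wj (u Ω))) (u Ω) = u Ω := by rw [← hg _ hj, e3]
    rw [e4, Nat.beq_refl] at h5
    exact Bool.noConfusion h5

/-! ### the relator tests, with two surviving pairs -/

def mainC2 (n : ℕ) (A Y : ℕ → ℕ) (rels : List (List Bool × ℕ)) (cj cp : ℕ → ℕ) (p r1 m1 lo cnt : ℕ) :
    Bool :=
  allBelow (fun r' => force (Y (Nat.add lo r')) (fun y => allBelow (fun m =>
    bor (Nat.beq m 0) (bor (bor (band (Nat.beq (Nat.add lo r') 0) (Nat.beq m 1))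
        (band (Nat.beq (Nat.add lo r') r1) (Nat.beq m m1)))
      (force (A m) (fun am => force (Nat.add (Nat.mul (Nat.add lo r') p) m) (fun i =>
        band (Nat.blt (cp i) n)
          (bnot (Nat.beq (trp am y (nthR rels (cj i)).1 (nthR rels (cj i)).2 (cp i)) (cp i)))))))) p)) cnt

theorem mainC2_spec {a z : Equiv.Perm (Fin n)} {ac zc : ℕ} (ha : HasP a ac) (hz : HasP z zc)
    {A Y : ℕ → ℕ} {rels : List (List Bool × ℕ)} (hrel : relB n ac zc rels = true) {cj cp : ℕ → ℕ}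
    {p r1 m1 lo cnt : ℕ} (h : mainC2 n A Y rels cj cp p r1 m1 lo cnt = true) {r m : ℕ} (h1 : lo ≤ r)
    (h2 : r < lo + cnt) (hm0 : 0 < m) (hmp : m < p) {τ : Equiv.Perm (Fin n)} (hτ : HasP τ (Y r))
    (hA : HasP (a ^ m) (A m))
    (hw : ∀ (w : List Bool) (mm : ℕ), ev a z w ^ mm = 1 → ev (a ^ m) τ w ^ mm = 1) :
    (r = 0 ∧ m = 1) ∨ (r = r1 ∧ m = m1) := by
  unfold mainC2 at h
  rw [allBelow_iff] at h
  have h3 := h (r - lo) (by omega)
  have e : Nat.add lo (r - lo) = r := by show lo + (r - lo) = r; omega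
  rw [force_eq, e, allBelow_iff] at h3
  have h4 := h3 m hmp
  rw [force_eq, force_eq, bor_eq, bor_eq, bor_eq, Bool.or_eq_true, Bool.or_eq_true, Bool.or_eq_true,
    Nat.beq_eq, band_eq, band_eq, Bool.and_eq_true, Bool.and_eq_true, Nat.beq_eq, Nat.beq_eq, Nat.beq_eq,
    Nat.beq_eq, band_eq, Bool.and_eq_true, bnot_eq_true] at h4
  rcases h4 with h4 | (h4 | h4) | ⟨h4, h5⟩
  · omega
  · exact Or.inl h4
  · exact Or.inr h4
  · exfalso
    set i := Nat.add (Nat.mul r p) m with hi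
    have h4' : cp i < n := Nat.le_of_ble_eq_true h4
    have h6 := hw _ _ (rel_of_relB ha hz hrel (cj i))
    have h7 := trp_spec hA hτ (nthR rels (cj i)).1 (nthR rels (cj i)).2 ⟨cp i, h4'⟩
    rw [h6] at h7
    have h8 : trp (A m) (Y r) (nthR rels (cj i)).1 (nthR rels (cj i)).2 (cp i) = cp i := h7.symm
    rw [h8, Nat.beq_refl] at h5
    exact Bool.noConfusion h5

/-- the hypothesis `H2` of `AutSetup4`; `s` is the inverse of `t0`. -/
theorem H2_of_checks2 {a z s : Equiv.Perm (Fin n)} {zc p R r1 m1 : ℕ} {Y : ℕ → ℕ}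
    {P H : Subgroup (Equiv.Perm (Fin n))} (hp : p.Prime) (oa : orderOf a = p) (hz : HasP z zc)
    (hY0 : Y 0 = zc) (hHP : H ≤ P) (hHN : H ≤ normZ a)
    (hcov : ∀ x ∈ P, ∃ σ ∈ H, ∃ τ, ∃ r < R, HasP τ (Y r) ∧ x * z * x⁻¹ = σ * τ * σ⁻¹)
    (hmain : ∀ r < R, ∀ m, 0 < m → m < p → ∀ τ : Equiv.Perm (Fin n), HasP τ (Y r) →
      (∀ (w : List Bool) (mm : ℕ), ev a z w ^ mm = 1 → ev (a ^ m) τ w ^ mm = 1) →
        (r = 0 ∧ m = 1) ∨ (r = r1 ∧ m = m1))
    (hsa : s * a * s⁻¹ = a ^ m1) (hsz : HasP (s * z * s⁻¹) (Y r1)) :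
    ∀ (m : ℕ) (y : Equiv.Perm (Fin n)), 0 < m → m < p → (∃ x ∈ P, y = x * z * x⁻¹) →
    (∀ (w : List Bool) (mm : ℕ), ev a z w ^ mm = 1 → ev (a ^ m) y w ^ mm = 1) →
    ∃ u, (u ∈ P ∨ u * s⁻¹ ∈ P) ∧ u * a * u⁻¹ = a ^ m ∧ u * z * u⁻¹ = y := by
  rintro m y hm0 hmp ⟨x, hx, rfl⟩ hw
  obtain ⟨σ, hσ, τ, r, hr, hτ, e⟩ := hcov x hx
  obtain ⟨m', hm0', hmp', e'⟩ := normZ_pow hp oa (hHN hσ) hm0 hmp
  have hw' : ∀ (w : List Bool) (mm : ℕ), ev a z w ^ mm = 1 → ev (a ^ m') τ w ^ mm = 1 := by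
    intro w mm h1
    have h2 := hw w mm h1
    have h3 := map_ev (MulAut.conj σ⁻¹).toMonoidHom (a ^ m) (x * z * x⁻¹) w
    have e1 : (MulAut.conj σ⁻¹).toMonoidHom (a ^ m) = a ^ m' := by
      rw [← e']; simp
    have e2 : (MulAut.conj σ⁻¹).toMonoidHom (x * z * x⁻¹) = τ := by
      rw [e]; simp [mul_assoc]
    rw [e1, e2] at h3
    rw [← h3, ← map_pow, h2, map_one]
  have e'' : σ * a ^ m' * σ⁻¹ = a ^ m := by rw [← e']; group
  rcases hmain r hr m' hm0' hmp' τ hτ hw' with ⟨rfl, rfl⟩ | ⟨rfl, rfl⟩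
  · have hτz : τ = z := by rw [hY0] at hτ; exact hτ.ext hz
    refine ⟨σ, Or.inl (hHP hσ), ?_, ?_⟩
    · rw [pow_one] at e''; exact e''
    · rw [e, hτz]
  · have hτz : τ = s * z * s⁻¹ := hτ.ext hsz
    refine ⟨σ * s, Or.inr (by rw [mul_assoc, mul_inv_cancel, mul_one]; exact hHP hσ), ?_, ?_⟩
    · rw [← e'', ← hsa]; group
    · rw [e, hτz]; group

/-! ### `2`-groups given by a subnormal series -/

theorem isPGroup_poly {Γ : Type*} [Group Γ] (g : ℕ → Γ) (k r : ℕ) (hord : ∀ j < r, g j ^ 2 ^ k = 1)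
    (hn : ∀ j < r, ∀ i < j, g j * g i * (g j)⁻¹ ∈ genS g j ∧ (g j)⁻¹ * g i * g j ∈ genS g j) :
    IsPGroup 2 (genS g r) := by
  induction r with
  | zero =>
    have : genS g 0 = ⊥ := by
      rw [eq_bot_iff]
      exact genS_le (fun j hj => absurd hj (Nat.not_lt_zero j))
    rw [this]
    exact IsPGroup.of_bot
  | succ r ih =>
    have ih' := ih (fun j hj => hord j (by omega)) (fun j hj => hn j (by omega))
    rw [genS_succ]
    have h4 : g r ^ 2 ^ k = 1 := hord r (by omega)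
    have hZ : IsPGroup 2 (Subgroup.zpowers (g r)) := by
      rw [IsPGroup.iff_orderOf]
      intro x
      have hx : x ^ 2 ^ k = 1 := by
        obtain ⟨i, hi⟩ := Subgroup.mem_zpowers_iff.1 x.2
        apply Subtype.ext
        rw [Subgroup.coe_pow, ← hi, ← zpow_natCast, ← zpow_mul, mul_comm, zpow_mul, zpow_natCast, h4,
          one_zpow]
        rfl
      have hd : orderOf x ∣ 2 ^ k := orderOf_dvd_of_pow_eq_one hx
      obtain ⟨k', _, hk⟩ := (Nat.dvd_prime_pow Nat.prime_two).1 hd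
      exact ⟨k', hk⟩
    apply hZ.to_sup_of_normal_right' ih'
    let K : Subgroup Γ :=
      { carrier := {s | ∀ h ∈ genS g r, s * h * s⁻¹ ∈ genS g r ∧ s⁻¹ * h * s ∈ genS g r}
        one_mem' := fun h hh => by simpa using hh
        mul_mem' := by
          intro s t hs ht h hh
          constructor
          · have := (hs _ (ht h hh).1).1
            simpa [mul_assoc] using this
          · have := (ht _ (hs h hh).2).2
            simpa [mul_assoc] using this
        inv_mem' := by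
          intro s hs h hh
          have := hs h hh
          exact ⟨by simpa using this.2, by simpa using this.1⟩ }
    have hgK : g r ∈ K := by
      have key := hn r (by omega)
      have h1 : genS g r ≤ (genS g r).comap (MulAut.conj (g r)).toMonoidHom :=
        genS_le (fun i hi => (key i hi).1)
      have h2 : genS g r ≤ (genS g r).comap (MulAut.conj (g r)⁻¹).toMonoidHom :=
        genS_le (fun i hi => by
          have := (key i hi).2
          show (g r)⁻¹ * g i * (g r)⁻¹⁻¹ ∈ genS g r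
          rwa [inv_inv])
      intro h hh
      refine ⟨h1 hh, ?_⟩
      have := h2 hh
      have e : (g r)⁻¹ * h * (g r)⁻¹⁻¹ ∈ genS g r := this
      rwa [inv_inv] at e
    rw [Subgroup.le_normalizer_iff]
    intro s hs k hk
    have : Subgroup.zpowers (g r) ≤ K := by rw [Subgroup.zpowers_le]; exact hgK
    exact (this hs k hk).1

/-- the product of a word in the generators. -/
def prodL {Γ : Type*} [Group Γ] (g : ℕ → Γ) (w : List ℕ) : Γ := List.rec 1 (fun j _ ih => g j * ih) w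

theorem prodL_cons {Γ : Type*} [Group Γ] (g : ℕ → Γ) (j : ℕ) (w : List ℕ) :
    prodL g (j :: w) = g j * prodL g w := rfl

theorem prodL_mem {Γ : Type*} [Group Γ] (g : ℕ → Γ) {r : ℕ} {w : List ℕ} (hw : ∀ j ∈ w, j < r) :
    prodL g w ∈ genS g r := by
  induction w with
  | nil => exact Subgroup.one_mem _
  | cons j w ih =>
    rw [prodL_cons]
    exact Subgroup.mul_mem _ (gen_mem g (hw j List.mem_cons_self))
      (ih (fun k hk => hw k (List.mem_cons_of_mem _ hk)))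

theorem trL_spec {g : ℕ → Equiv.Perm (Fin n)} {qc : ℕ → ℕ} {r : ℕ} (hg : ∀ j < r, HasP (g j) (qc j))
    {w : List ℕ} (hw : ∀ j ∈ w, j < r) (x : Fin n) : ((prodL g w x : Fin n) : ℕ) = trL qc w x := by
  induction w with
  | nil => rfl
  | cons j w ih =>
    rw [prodL_cons, Equiv.Perm.mul_apply, hg j (hw j List.mem_cons_self),
      ih (fun k hk => hw k (List.mem_cons_of_mem _ hk))]
    rfl

/-- a word in the generators is trivial. -/
def wordB (n : ℕ) (qc : ℕ → ℕ) (r : ℕ) (w : List ℕ) : Bool :=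
  band (allList (fun l => Nat.blt l r) w) (allBelow (fun t => Nat.beq (trL qc w t) t) n)

theorem prodL_eq_one {g : ℕ → Equiv.Perm (Fin n)} {qc : ℕ → ℕ} {r : ℕ} (hg : ∀ j < r, HasP (g j) (qc j))
    {w : List ℕ} (h : wordB n qc r w = true) : prodL g w = 1 := by
  unfold wordB at h
  rw [band_eq, Bool.and_eq_true, allList_iff, allBelow_iff] at h
  apply perm_eq_of_val
  intro t
  rw [trL_spec hg (fun j hj => Nat.le_of_ble_eq_true (h.1 j hj))]
  have := h.2 t t.2
  rwa [Nat.beq_eq] at this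

/-- iterating a permutation. -/
def itr (c k t : ℕ) : ℕ := Nat.rec t (fun _ ih => en c ih) k

theorem itr_spec {σ : Equiv.Perm (Fin n)} {c : ℕ} (h : HasP σ c) (k : ℕ) (x : Fin n) :
    (((σ ^ k) x : Fin n) : ℕ) = itr c k x := by
  induction k with
  | zero => rfl
  | succ k ih =>
    rw [pow_succ', Equiv.Perm.mul_apply, h, ih]
    rfl

/-- certificate for `isPGroup_poly`. -/
def polyB (n : ℕ) (qc : ℕ → ℕ) (r e : ℕ) (w1 w2 : ℕ → List ℕ) : Bool :=
  allBelow (fun j => force (qc j) (fun gj => band (allBelow (fun t => Nat.beq (itr gj e t) t) n)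
    (allBelow (fun i => force (qc i) (fun gi =>
      band (band (allList (fun l => Nat.blt l j) (w1 (Nat.add (Nat.mul j r) i)))
          (allList (fun l => Nat.blt l j) (w2 (Nat.add (Nat.mul j r) i))))
        (allBelow (fun t => band (Nat.beq (en gj (en gi t)) (trL qc (w1 (Nat.add (Nat.mul j r) i)) (en gj t)))
          (Nat.beq (en gi (en gj t)) (en gj (trL qc (w2 (Nat.add (Nat.mul j r) i)) t)))) n))) j))) r

theorem isPGroup_of_polyB {g : ℕ → Equiv.Perm (Fin n)} {qc : ℕ → ℕ} {r k : ℕ}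
    (hg : ∀ j < r, HasP (g j) (qc j)) {w1 w2 : ℕ → List ℕ} (h : polyB n qc r (2 ^ k) w1 w2 = true) :
    IsPGroup 2 (genS g r) := by
  unfold polyB at h
  rw [allBelow_iff] at h
  have key : ∀ j < r, g j ^ 2 ^ k = 1 ∧
      ∀ i < j, g j * g i * (g j)⁻¹ ∈ genS g j ∧ (g j)⁻¹ * g i * g j ∈ genS g j := by
    intro j hj
    have h1 := h j hj
    rw [force_eq, band_eq, Bool.and_eq_true, allBelow_iff, allBelow_iff] at h1
    refine ⟨?_, ?_⟩
    · apply perm_eq_of_val
      intro t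
      rw [itr_spec (hg j hj)]
      have := h1.1 t t.2
      rwa [Nat.beq_eq] at this
    · intro i hi
      have h2 := h1.2 i hi
      rw [force_eq, band_eq, band_eq, Bool.and_eq_true, Bool.and_eq_true, allList_iff, allList_iff,
        allBelow_iff] at h2
      obtain ⟨⟨a1, a2⟩, a3⟩ := h2
      have b1 : ∀ l ∈ w1 (Nat.add (Nat.mul j r) i), l < j := fun l hl => Nat.le_of_ble_eq_true (a1 l hl)
      have b2 : ∀ l ∈ w2 (Nat.add (Nat.mul j r) i), l < j := fun l hl => Nat.le_of_ble_eq_true (a2 l hl)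
      have hi' : i < r := by omega
      have c1 : g j * g i = prodL g (w1 (Nat.add (Nat.mul j r) i)) * g j := by
        apply perm_eq_of_val
        intro t
        have := (a3 t t.2)
        rw [band_eq, Bool.and_eq_true, Nat.beq_eq, Nat.beq_eq] at this
        show ((g j (g i t) : Fin n) : ℕ) = prodL g (w1 (Nat.add (Nat.mul j r) i)) (g j t)
        rw [trL_spec hg (fun l hl => by have := b1 l hl; omega), hg j hj, hg i hi', hg j hj]
        exact this.1
      have c2 : g i * g j = g j * prodL g (w2 (Nat.add (Nat.mul j r) i)) := by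
        apply perm_eq_of_val
        intro t
        have := (a3 t t.2)
        rw [band_eq, Bool.and_eq_true, Nat.beq_eq, Nat.beq_eq] at this
        show ((g i (g j t) : Fin n) : ℕ) = g j (prodL g (w2 (Nat.add (Nat.mul j r) i)) t)
        rw [hg j hj, trL_spec hg (fun l hl => by have := b2 l hl; omega), hg i hi', hg j hj]
        exact this.2
      constructor
      · rw [c1, mul_assoc, mul_inv_cancel, mul_one]
        exact prodL_mem g b1
      · rw [mul_assoc, c2, ← mul_assoc, inv_mul_cancel, one_mul]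
        exact prodL_mem g b2
  exact isPGroup_poly g k r (fun j hj => (key j hj).1) (fun j hj => (key j hj).2)

/-! ### the centraliser of the `2`-group -/

/-- `z` commutes with the generators. -/
def zcommB (n zc : ℕ) (qc : ℕ → ℕ) (r : ℕ) : Bool := allBelow (fun j => eqB n zc (qc j) (qc j) zc) r

theorem zcomm_of_zcommB {z : Equiv.Perm (Fin n)} {zc : ℕ} (hz : HasP z zc) {g : ℕ → Equiv.Perm (Fin n)}
    {qc : ℕ → ℕ} {r : ℕ} (hg : ∀ j < r, HasP (g j) (qc j)) (h : zcommB n zc qc r = true) :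
    ∀ j < r, z * g j = g j * z := by
  unfold zcommB at h
  rw [allBelow_iff] at h
  exact fun j hj => mul_eq_of_eqB hz (hg j hj) (hg j hj) hz (h j hj)

/-- a point of the block with the same stabiliser as `ω` is one of two points. -/
def fixQ2 (n1 zc : ℕ) (qc : ℕ → ℕ) (r ω : ℕ) (wj : ℕ → ℕ) : Bool :=
  band (bnot (Nat.beq (en zc ω) ω))
    (allBelow (fun x => bor (bor (Nat.beq x ω) (Nat.beq x (en zc ω)))
      (bor (Nat.beq (en zc x) x)
        (band (band (Nat.blt (wj x) r) (Nat.beq (en (qc (wj x)) ω) ω))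
          (bnot (Nat.beq (en (qc (wj x)) x) x))))) n1)

theorem cent_of_fixQ2 {P : Subgroup (Equiv.Perm (Fin n))} {z : Equiv.Perm (Fin n)} {zc : ℕ}
    (hz : HasP z zc) (hzP : z ∈ P) {g : ℕ → Equiv.Perm (Fin n)} {qc : ℕ → ℕ} {r : ℕ}
    (hg : ∀ j < r, HasP (g j) (qc j)) (hzq : ∀ j < r, z * g j = g j * z) {iz : ℕ} (hiz : iz < r)
    (hz0 : g iz = z) {ω n1 : ℕ} (hω : ω < n) (hω1 : ω < n1) (hblk : P ≤ blkS n n1) {wj : ℕ → ℕ}
    (hfix : fixQ2 n1 zc qc r ω wj = true) {β : ℕ → ℕ} {wd : ℕ → List ℕ} {L : ℕ}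
    (hbase : baseQ qc r ω β wd L = true) (htriv : ∀ x ∈ St P β L, x = 1) :
    ∀ t ∈ P, (∀ j < r, t * g j = g j * t) → t = 1 ∨ t = z := by
  intro t ht htc
  unfold fixQ2 at hfix
  rw [band_eq, Bool.and_eq_true, bnot_eq_true, allBelow_iff] at hfix
  obtain ⟨hzω, hfix⟩ := hfix
  unfold baseQ at hbase
  rw [allBelow_iff] at hbase
  let Ω : Fin n := ⟨ω, hω⟩
  have app : ∀ {u v : Equiv.Perm (Fin n)}, u * v = v * u → ∀ q, u (v q) = v (u q) := by
    intro u v e q
    exact congrArg (fun s : Equiv.Perm (Fin n) => s q) e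
  have aux : ∀ u ∈ P, (∀ j < r, u * g j = g j * u) → u Ω = t Ω → t = u := by
    intro u hu huc huΩ
    have h1 : u⁻¹ * t = 1 := by
      apply htriv
      have hcomm : ∀ j < r, (u⁻¹ * t) * g j = g j * (u⁻¹ * t) := by
        intro j hj
        have e1 : u⁻¹ * g j = g j * u⁻¹ := by
          have := huc j hj
          calc u⁻¹ * g j = u⁻¹ * (g j * u) * u⁻¹ := by group
            _ = u⁻¹ * (u * g j) * u⁻¹ := by rw [this]
            _ = g j * u⁻¹ := by group
        rw [mul_assoc, htc j hj, ← mul_assoc, e1, mul_assoc]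
      have hΩ : (u⁻¹ * t) Ω = Ω := by
        rw [Equiv.Perm.mul_apply, ← huΩ]
        simp
      have hword : ∀ w : List ℕ, (∀ j ∈ w, j < r) → ∃ h : trL qc w ω < n,
          (u⁻¹ * t) ⟨trL qc w ω, h⟩ = ⟨trL qc w ω, h⟩ := by
        intro w
        induction w with
        | nil => intro _; exact ⟨hω, hΩ⟩
        | cons j w ih =>
          intro hw
          obtain ⟨h2, h3⟩ := ih (fun k hk => hw k (List.mem_cons_of_mem _ hk))
          have hj : j < r := hw j List.mem_cons_self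
          have e2 : trL qc (j :: w) ω = ((g j ⟨trL qc w ω, h2⟩ : Fin n) : ℕ) := by
            rw [hg j hj]; rfl
          have h4 : trL qc (j :: w) ω < n := by rw [e2]; exact (g j ⟨trL qc w ω, h2⟩).2
          have e3 : (⟨trL qc (j :: w) ω, h4⟩ : Fin n) = g j ⟨trL qc w ω, h2⟩ := Fin.ext e2
          refine ⟨h4, ?_⟩
          rw [e3, app (hcomm j hj), h3]
      refine ⟨P.mul_mem (P.inv_mem hu) ht, ?_⟩
      intro k hk hβ
      have h5 := hbase k hk
      rw [band_eq, Bool.and_eq_true, allList_iff, Nat.beq_eq] at h5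
      obtain ⟨h6, h7⟩ := hword (wd k) (fun j hj => Nat.le_of_ble_eq_true (h5.1 j hj))
      have e4 : (⟨β k, hβ⟩ : Fin n) = ⟨trL qc (wd k) ω, h6⟩ := Fin.ext h5.2.symm
      rw [e4, h7]
    have := congrArg (fun s => u * s) h1
    simpa using this
  have htz : t * z = z * t := hz0 ▸ htc iz hiz
  have htΩ : ((t Ω : Fin n) : ℕ) < n1 := (hblk ht Ω).2 hω1
  have h1 := hfix (t Ω) htΩ
  rw [bor_eq, bor_eq, bor_eq, band_eq, band_eq, Bool.or_eq_true, Bool.or_eq_true,
    Bool.or_eq_true, Bool.and_eq_true, Bool.and_eq_true,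
    bnot_eq_true, Nat.beq_eq, Nat.beq_eq, Nat.beq_eq, Nat.beq_eq] at h1
  rcases h1 with (h1 | h1) | (h1 | ⟨⟨h1, h2⟩, h3⟩)
  · left
    exact aux 1 (Subgroup.one_mem _) (fun j _ => by simp) (Fin.ext h1.symm)
  · right
    exact aux z hzP hzq (Fin.ext (by rw [hz]; exact h1.symm))
  · exfalso
    have e1 : z (t Ω) = t Ω := Fin.ext (by rw [hz]; exact h1)
    rw [← app htz] at e1
    have e2 : z Ω = Ω := t.injective e1
    have e3 : en zc ω = ω := by rw [← hz Ω, e2]
    rw [e3, Nat.beq_refl] at hzω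
    exact Bool.noConfusion hzω
  · exfalso
    have hj : wj (t Ω) < r := Nat.le_of_ble_eq_true h1
    have e1 : g (wj (t Ω)) Ω = Ω := Fin.ext (by rw [hg _ hj]; exact h2)
    have e2 : g (wj (t Ω)) (t Ω) = t Ω := by rw [← app (htc _ hj), e1]
    have e3 : en (qc (wj (t Ω))) (t Ω) = t Ω := by rw [← hg _ hj, e2]
    rw [e3, Nat.beq_refl] at h3
    exact Bool.noConfusion h3

/-! ### the stabiliser chain -/

theorem chain_facts {P : Subgroup (Equiv.Perm (Fin n))} {β : ℕ → ℕ} {L N : ℕ} (hN : 0 < N)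
    (h : N * Nat.card (St P β L) ≤ Nat.card P) :
    N ≤ Nat.card P ∧ (Nat.card P = N → ∀ x ∈ St P β L, x = 1) := by
  have h2 : 0 < Nat.card (St P β L) := Nat.card_pos
  constructor
  · nlinarith
  · intro hP
    have h3 : Nat.card (St P β L) ≤ 1 := by
      rw [hP] at h
      by_contra hlt
      have : 2 ≤ Nat.card (St P β L) := by omega
      nlinarith
    have h4 := (Subgroup.card_le_one_iff_eq_bot _).1 h3
    intro x hx
    rw [h4] at hx
    exact Subgroup.mem_bot.1 hx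

theorem le_blkS_self (P : Subgroup (Equiv.Perm (Fin n))) : P ≤ blkS n n :=
  fun x _ i => ⟨fun _ => i.2, fun _ => (x i).2⟩

/-! ### trivial centraliser in the symmetric group -/

theorem trans_of_orbB {g : ℕ → Equiv.Perm (Fin n)} {gc : ℕ → ℕ} {ρ : ℕ}
    (hg : ∀ j < ρ, HasP (g j) (gc j)) {H : Subgroup (Equiv.Perm (Fin n))} (hH : ∀ j < ρ, g j ∈ H)
    {op par gsel pos : ℕ → ℕ} {b : ℕ} (hb : b < n) (h : orbB n gc ρ op par gsel pos b n = true) :
    ∀ i : Fin n, ∃ x ∈ H, x ⟨b, hb⟩ = i := by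
  obtain ⟨pts, hinj, hr⟩ := orbB_spec hg hH hb h
  intro i
  obtain ⟨j, rfl⟩ := (Finite.injective_iff_surjective.1 hinj) i
  exact hr j

/-- every point other than `ω` is moved by one of the first `ρ` permutations, which fix `ω`. -/
def fixB (n : ℕ) (gc : ℕ → ℕ) (ρ ω : ℕ) (wj : ℕ → ℕ) : Bool :=
  band (allBelow (fun j => Nat.beq (en (gc j) ω) ω) ρ)
    (allBelow (fun x => bor (Nat.beq x ω)
      (band (Nat.blt (wj x) ρ) (bnot (Nat.beq (en (gc (wj x)) x) x)))) n)

theorem cent_of_fixB {a z : Equiv.Perm (Fin n)} {ω ρ : ℕ} {g : ℕ → Equiv.Perm (Fin n)} {gc : ℕ → ℕ}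
    (hg : ∀ j < ρ, HasP (g j) (gc j)) (hgP : ∀ j < ρ, g j ∈ PG a z) (hω : ω < n)
    {wj : ℕ → ℕ} (h : fixB n gc ρ ω wj = true) (htr : ∀ i : Fin n, ∃ x ∈ PG a z, x ⟨ω, hω⟩ = i) :
    ∀ u : Equiv.Perm (Fin n), u * a = a * u → u * z = z * u → u = 1 := by
  unfold fixB at h
  rw [band_eq, Bool.and_eq_true, allBelow_iff, allBelow_iff] at h
  obtain ⟨h1, h2⟩ := h
  intro u hua huz
  have hcomm := comm_closure hua huz
  let Ω : Fin n := ⟨ω, hω⟩
  have hΩ : u Ω = Ω := by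
    have h4 := h2 (u Ω) (u Ω).2
    rw [bor_eq, Bool.or_eq_true, band_eq, Bool.and_eq_true, bnot_eq_true, Nat.beq_eq] at h4
    rcases h4 with h4 | ⟨h4, h5⟩
    · exact Fin.ext h4
    · exfalso
      have hj : wj (u Ω) < ρ := Nat.le_of_ble_eq_true h4
      have e2 : g (wj (u Ω)) Ω = Ω := Fin.ext (by
        rw [hg _ hj]
        have := h1 _ hj
        rwa [Nat.beq_eq] at this)
      have e3 : g (wj (u Ω)) (u Ω) = u Ω := by
        have := congrArg (fun σ : Equiv.Perm (Fin n) => σ Ω) (hcomm _ (hgP _ hj))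
        simp only [Equiv.Perm.mul_apply] at this
        rw [← this, e2]
      have e4 : en (gc (wj (u Ω))) (u Ω) = u Ω := by rw [← hg _ hj, e3]
      rw [e4, Nat.beq_refl] at h5
      exact Bool.noConfusion h5
  ext1 i
  obtain ⟨x, hx, rfl⟩ := htr i
  have := congrArg (fun σ : Equiv.Perm (Fin n) => σ Ω) (hcomm x hx)
  simp only [Equiv.Perm.mul_apply] at this
  rw [hΩ] at this
  exact this

/-! ### orders -/

def ordB (n c m : ℕ) : Bool := allBelow (fun t => Nat.beq (itr c m t) t) n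

theorem pow_eq_one_of_ordB {σ : Equiv.Perm (Fin n)} {c m : ℕ} (h : HasP σ c) (hb : ordB n c m = true) :
    σ ^ m = 1 := by
  unfold ordB at hb
  rw [allBelow_iff] at hb
  apply perm_eq_of_val
  intro t
  rw [itr_spec h]
  have := hb t t.2
  rwa [Nat.beq_eq] at this

/-- the relations of a Coxeter graph. -/
def coxB (n : ℕ) (gc : ℕ → ℕ) (lab : ℕ → ℕ → ℕ) (r : ℕ) : Bool :=
  allBelow (fun x => allBelow (fun y => force (mulP n (gc x) (gc y)) (fun c => ordB n c (lab x y))) r) r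

theorem cox_of_coxB {g : ℕ → Equiv.Perm (Fin n)} {gc : ℕ → ℕ} {r : ℕ} (hg : ∀ j < r, HasP (g j) (gc j))
    {lab : ℕ → ℕ → ℕ} (h : coxB n gc lab r = true) : ∀ x < r, ∀ y < r, (g x * g y) ^ lab x y = 1 := by
  unfold coxB at h
  rw [allBelow_iff] at h
  intro x hx y hy
  have h1 := h x hx
  rw [allBelow_iff] at h1
  have h2 := h1 y hy
  rw [force_eq] at h2
  exact pow_eq_one_of_ordB ((hg x hx).mul (hg y hy)) h2

end Cfsg.Agent.Lib.Helper92.PCY
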