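import Cfsg.Agent.Lib.Helper92.PCY.Cls2

/-!
# A `2`-subgroup with centraliser `{1, z}`
-/

set_option autoImplicit false

namespace Cfsg.Agent.Lib.Helper92.PCY

open Cfsg.Agent.Lib.Helper27
open Cfsg.Agent.Lib.Helper92

variable {n : ℕ}

theorem perm_eq_of_val {σ τ : Equiv.Perm (Fin n)} (h : ∀ i : Fin n, ((σ i : Fin n) : ℕ) = τ i) :
    σ = τ := Equiv.ext (fun i => Fin.ext (h i))

/-! ### relations of extraspecial type -/

/-- squares and commutators of the generators lie in `{1, z}`, and `z` is central. -/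
def pairB (n zc : ℕ) (qc : ℕ → ℕ) (r : ℕ) : Bool :=
  allBelow (fun j => force (qc j) (fun gj =>
    band (band (allBelow (fun t => Nat.beq (en zc (en gj t)) (en gj (en zc t))) n)
      (bor (allBelow (fun t => Nat.beq (en gj (en gj t)) t) n)
        (allBelow (fun t => Nat.beq (en gj (en gj t)) (en zc t)) n)))
      (allBelow (fun i => force (qc i) (fun gi =>
        bor (allBelow (fun t => Nat.beq (en gj (en gi t)) (en gi (en gj t))) n)
          (allBelow (fun t => Nat.beq (en gj (en gi t)) (en zc (en gi (en gj t)))) n))) j))) r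

theorem pairB_spec {z : Equiv.Perm (Fin n)} {zc : ℕ} (hz : HasP z zc) {g : ℕ → Equiv.Perm (Fin n)}
    {qc : ℕ → ℕ} {r : ℕ} (hg : ∀ j < r, HasP (g j) (qc j)) (h : pairB n zc qc r = true) :
    (∀ j < r, z * g j = g j * z) ∧ (∀ j < r, g j * g j = 1 ∨ g j * g j = z) ∧
      ∀ j < r, ∀ i < j, g j * g i = g i * g j ∨ g j * g i = z * (g i * g j) := by
  unfold pairB at h
  rw [allBelow_iff] at h
  have key : ∀ j < r, z * g j = g j * z ∧ (g j * g j = 1 ∨ g j * g j = z) ∧
      ∀ i < j, g j * g i = g i * g j ∨ g j * g i = z * (g i * g j) := by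
    intro j hj
    have h1 := h j hj
    rw [force_eq, band_eq, band_eq, bor_eq, Bool.and_eq_true, Bool.and_eq_true, Bool.or_eq_true,
      allBelow_iff, allBelow_iff, allBelow_iff, allBelow_iff] at h1
    obtain ⟨⟨h2, h3⟩, h4⟩ := h1
    refine ⟨?_, ?_, ?_⟩
    · apply perm_eq_of_val
      intro t
      have := h2 t t.2
      rw [Nat.beq_eq] at this
      show ((z (g j t) : Fin n) : ℕ) = g j (z t)
      rw [hz, hg j hj, hg j hj, hz]
      exact this
    · rcases h3 with h3 | h3
      · left
        apply perm_eq_of_val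
        intro t
        have := h3 t t.2
        rw [Nat.beq_eq] at this
        show ((g j (g j t) : Fin n) : ℕ) = t
        rw [hg j hj, hg j hj]
        exact this
      · right
        apply perm_eq_of_val
        intro t
        have := h3 t t.2
        rw [Nat.beq_eq] at this
        show ((g j (g j t) : Fin n) : ℕ) = z t
        rw [hg j hj, hg j hj, hz]
        exact this
    · intro i hi
      have h5 := h4 i hi
      rw [force_eq, bor_eq, Bool.or_eq_true, allBelow_iff, allBelow_iff] at h5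
      have hi' : i < r := by omega
      rcases h5 with h5 | h5
      · left
        apply perm_eq_of_val
        intro t
        have := h5 t t.2
        rw [Nat.beq_eq] at this
        show ((g j (g i t) : Fin n) : ℕ) = g i (g j t)
        rw [hg j hj, hg i hi', hg i hi', hg j hj]
        exact this
      · right
        apply perm_eq_of_val
        intro t
        have := h5 t t.2
        rw [Nat.beq_eq] at this
        show ((g j (g i t) : Fin n) : ℕ) = z (g i (g j t))
        rw [hg j hj, hg i hi', hz, hg i hi', hg j hj]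
        exact this
  exact ⟨fun j hj => (key j hj).1, fun j hj => (key j hj).2.1, fun j hj => (key j hj).2.2⟩

/-! ### the centraliser -/

/-- the image of a point under a word in the generators. -/
def trL (qc : ℕ → ℕ) (w : List ℕ) (x : ℕ) : ℕ := List.rec x (fun j _ ih => en (qc j) ih) w

/-- a point with the same stabiliser as `ω` is one of four points. -/
def fixQ (n zc cc : ℕ) (qc : ℕ → ℕ) (r ω : ℕ) (wj : ℕ → ℕ) : Bool :=
  band (bnot (Nat.beq (en zc ω) ω))
    (allBelow (fun x => bor (bor (bor (Nat.beq x ω) (Nat.beq x (en zc ω)))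
        (bor (Nat.beq x (en cc ω)) (Nat.beq x (en cc (en zc ω)))))
      (bor (Nat.beq (en zc x) x)
        (band (band (Nat.blt (wj x) r) (Nat.beq (en (qc (wj x)) ω) ω))
          (bnot (Nat.beq (en (qc (wj x)) x) x))))) n)

/-- the base points are images of `ω` under words in the generators. -/
def baseQ (qc : ℕ → ℕ) (r ω : ℕ) (β : ℕ → ℕ) (wd : ℕ → List ℕ) (L : ℕ) : Bool :=
  allBelow (fun i => band (allList (fun j => Nat.blt j r) (wd i)) (Nat.beq (trL qc (wd i) ω) (β i))) L

theorem cent_of_fixQ {P : Subgroup (Equiv.Perm (Fin n))} {z c : Equiv.Perm (Fin n)} {zc cc : ℕ}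
    (hz : HasP z zc) (hcd : HasP c cc) (hcc : c * c = 1) (hc : ∀ x ∈ P, c * x = x * c) (hzP : z ∈ P)
    {g : ℕ → Equiv.Perm (Fin n)} {qc : ℕ → ℕ} {r : ℕ} (hg : ∀ j < r, HasP (g j) (qc j))
    (hgP : ∀ j < r, g j ∈ P) (hzq : ∀ j < r, z * g j = g j * z) (h0 : 0 < r) (hz0 : g 0 = z)
    {ω : ℕ} (hω : ω < n) {wj : ℕ → ℕ} (hfix : fixQ n zc cc qc r ω wj = true) {β : ℕ → ℕ}
    {wd : ℕ → List ℕ} {L : ℕ} (hbase : baseQ qc r ω β wd L = true)
    (htriv : ∀ x ∈ St (hat P c hcc hc) β L, x = 1) (hcP : c ∉ P) :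
    ∀ t ∈ P, (∀ j < r, t * g j = g j * t) → t = 1 ∨ t = z := by
  intro t ht htc
  unfold fixQ at hfix
  rw [band_eq, Bool.and_eq_true, bnot_eq_true, allBelow_iff] at hfix
  obtain ⟨hzω, hfix⟩ := hfix
  unfold baseQ at hbase
  rw [allBelow_iff] at hbase
  let Ω : Fin n := ⟨ω, hω⟩
  have app : ∀ {u v : Equiv.Perm (Fin n)}, u * v = v * u → ∀ q, u (v q) = v (u q) := by
    intro u v e q
    exact congrArg (fun s : Equiv.Perm (Fin n) => s q) e
  -- an element of the big group commuting with the generators and agreeing with `t` at `ω`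
  have aux : ∀ u ∈ hat P c hcc hc, (∀ j < r, u * g j = g j * u) → u Ω = t Ω → t = u := by
    intro u hu huc huΩ
    have h1 : u⁻¹ * t = 1 := by
      apply htriv
      have hcomm : ∀ j < r, (u⁻¹ * t) * g j = g j * (u⁻¹ * t) := by
        intro j hj
        have e1 : u⁻¹ * g j = g j * u⁻¹ := by
          have := huc j hj
          calc u⁻¹ * g j = u⁻¹ * (g j * u) * u⁻¹ := by group
            _ = u⁻¹ * (u * g j) * u⁻¹ := by rw [this]
            _ = g j * u⁻¹ := by group
        rw [mul_assoc, htc j hj, ← mul_assoc, e1, mul_assoc]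
      have hΩ : (u⁻¹ * t) Ω = Ω := by
        rw [Equiv.Perm.mul_apply, ← huΩ]
        simp
      have hword : ∀ w : List ℕ, (∀ j ∈ w, j < r) → ∃ h : trL qc w ω < n,
          (u⁻¹ * t) ⟨trL qc w ω, h⟩ = ⟨trL qc w ω, h⟩ := by
        intro w
        induction w with
        | nil => intro _; exact ⟨hω, hΩ⟩
        | cons j w ih =>
          intro hw
          obtain ⟨h2, h3⟩ := ih (fun k hk => hw k (List.mem_cons_of_mem _ hk))
          have hj : j < r := hw j List.mem_cons_self
          have e2 : trL qc (j :: w) ω = ((g j ⟨trL qc w ω, h2⟩ : Fin n) : ℕ) := by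
            rw [hg j hj]; rfl
          have h4 : trL qc (j :: w) ω < n := by rw [e2]; exact (g j ⟨trL qc w ω, h2⟩).2
          have e3 : (⟨trL qc (j :: w) ω, h4⟩ : Fin n) = g j ⟨trL qc w ω, h2⟩ := Fin.ext e2
          refine ⟨h4, ?_⟩
          rw [e3, app (hcomm j hj), h3]
      refine ⟨(hat P c hcc hc).mul_mem ((hat P c hcc hc).inv_mem hu) (le_hat P c hcc hc ht), ?_⟩
      intro k hk hβ
      have h5 := hbase k hk
      rw [band_eq, Bool.and_eq_true, allList_iff, Nat.beq_eq] at h5
      obtain ⟨h6, h7⟩ := hword (wd k) (fun j hj => Nat.le_of_ble_eq_true (h5.1 j hj))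
      have e4 : (⟨β k, hβ⟩ : Fin n) = ⟨trL qc (wd k) ω, h6⟩ := Fin.ext h5.2.symm
      rw [e4, h7]
    have := congrArg (fun s => u * s) h1
    simpa using this
  have htz : t * z = z * t := hz0 ▸ htc 0 h0
  have hcq : ∀ j < r, c * g j = g j * c := fun j hj => hc _ (hgP j hj)
  have h1 := hfix (t Ω) (t Ω).2
  rw [bor_eq, bor_eq, bor_eq, bor_eq, bor_eq, band_eq, band_eq, Bool.or_eq_true, Bool.or_eq_true,
    Bool.or_eq_true, Bool.or_eq_true, Bool.or_eq_true, Bool.and_eq_true, Bool.and_eq_true,
    bnot_eq_true, Nat.beq_eq, Nat.beq_eq, Nat.beq_eq, Nat.beq_eq, Nat.beq_eq, Nat.beq_eq] at h1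
  rcases h1 with ((h1 | h1) | (h1 | h1)) | (h1 | ⟨⟨h1, h2⟩, h3⟩)
  · left
    exact aux 1 (Subgroup.one_mem _) (fun j _ => by simp) (Fin.ext h1.symm)
  · right
    exact aux z (le_hat P c hcc hc hzP) hzq (Fin.ext (by rw [hz]; exact h1.symm))
  · exfalso
    have := aux c (c_mem_hat P c hcc hc) hcq (Fin.ext (by rw [hcd]; exact h1.symm))
    exact hcP (this ▸ ht)
  · exfalso
    have := aux (c * z) ((hat P c hcc hc).mul_mem (c_mem_hat P c hcc hc) (le_hat P c hcc hc hzP))
      (fun j hj => by rw [mul_assoc, hzq j hj, ← mul_assoc, hcq j hj, mul_assoc])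
      (Fin.ext (by
        show ((c (z Ω) : Fin n) : ℕ) = _
        rw [hcd, hz]; exact h1.symm))
    apply hcP
    have h4 : c = t * z⁻¹ := by rw [this]; group
    rw [h4]
    exact P.mul_mem ht (P.inv_mem hzP)
  · exfalso
    have e1 : z (t Ω) = t Ω := Fin.ext (by rw [hz]; exact h1)
    rw [← app htz] at e1
    have e2 : z Ω = Ω := t.injective e1
    have e3 : en zc ω = ω := by rw [← hz Ω, e2]
    rw [e3, Nat.beq_refl] at hzω
    exact Bool.noConfusion hzω
  · exfalso
    have hj : wj (t Ω) < r := Nat.le_of_ble_eq_true h1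
    have e1 : g (wj (t Ω)) Ω = Ω := Fin.ext (by rw [hg _ hj]; exact h2)
    have e2 : g (wj (t Ω)) (t Ω) = t Ω := by rw [← app (htc _ hj), e1]
    have e3 : en (qc (wj (t Ω))) (t Ω) = t Ω := by rw [← hg _ hj, e2]
    rw [e3, Nat.beq_refl] at h3
    exact Bool.noConfusion h3

/-- commuting with the generators is commuting with the subgroup. -/
theorem comm_genS {Γ : Type*} [Group Γ] {g : ℕ → Γ} {r : ℕ} {t : Γ}
    (h : ∀ q ∈ genS g r, t * q = q * t) : ∀ j < r, t * g j = g j * t :=
  fun _ hj => h _ (gen_mem g hj)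

/-- a homomorphism whose image contains a subgroup at least as big as the source is an isomorphism onto
that subgroup. -/
theorem iso_of_le {G Γ : Type*} [Group G] [Group Γ] [Finite G] (φ : G →* Γ) (P : Subgroup Γ)
    (hP : P ≤ φ.range) (h3 : Nat.card G ≤ Nat.card P) :
    Nonempty (G ≃* P) ∧ Nat.card P = Nat.card G := by
  have : Finite φ.range := Finite.of_surjective φ.rangeRestrict φ.rangeRestrict_surjective
  have : Finite P := Finite.of_injective (Subgroup.inclusion hP) (Subgroup.inclusion_injective hP)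
  have h1 : Nat.card φ.range ≤ Nat.card G :=
    Nat.card_le_card_of_surjective φ.rangeRestrict φ.rangeRestrict_surjective
  have h2 : Nat.card P ≤ Nat.card φ.range := Subgroup.card_le_of_le hP
  have h4 : Nat.card P = Nat.card G := by omega
  have h5 : P = φ.range := Subgroup.eq_of_le_of_card_ge hP (by omega)
  have h6 : Function.Injective φ.rangeRestrict := by
    have : Function.Bijective φ.rangeRestrict :=
      (Nat.bijective_iff_surjective_and_card _).2 ⟨φ.rangeRestrict_surjective, by omega⟩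
    exact this.1
  refine ⟨?_, h4⟩
  rw [h5]
  exact ⟨MulEquiv.ofBijective φ.rangeRestrict ⟨h6, φ.rangeRestrict_surjective⟩⟩

/-! ### small tools -/

theorem exists_fun {H : Subgroup (Equiv.Perm (Fin n))} {gc : ℕ → ℕ} {r : ℕ}
    (h : ∀ j < r, ∃ σ ∈ H, HasP σ (gc j)) :
    ∃ g : ℕ → Equiv.Perm (Fin n), (∀ j < r, g j ∈ H) ∧ ∀ j < r, HasP (g j) (gc j) := by
  classical
  refine ⟨fun j => if hj : j < r then (h j hj).choose else 1, fun j hj => ?_, fun j hj => ?_⟩
  · simp only [dif_pos hj]; exact (h j hj).choose_spec.1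
  · simp only [dif_pos hj]; exact (h j hj).choose_spec.2

theorem hat_facts {P : Subgroup (Equiv.Perm (Fin n))} {c : Equiv.Perm (Fin n)} {hcc : c * c = 1}
    {hc : ∀ x ∈ P, c * x = x * c} {β : ℕ → ℕ} {L N : ℕ} (hN : 0 < N)
    (h : 2 * N * Nat.card (St (hat P c hcc hc) β L) ≤ Nat.card (hat P c hcc hc)) :
    N ≤ Nat.card P ∧ (Nat.card P = N → (∀ x ∈ St (hat P c hcc hc) β L, x = 1) ∧ c ∉ P) := by
  have h1 := card_hat_le P c hcc hc
  have h2 : 0 < Nat.card (St (hat P c hcc hc) β L) := Nat.card_pos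
  constructor
  · nlinarith
  · intro hP
    constructor
    · have h3 : Nat.card (St (hat P c hcc hc) β L) ≤ 1 := by
        rw [hP] at h1
        by_contra hlt
        have : 2 ≤ Nat.card (St (hat P c hcc hc) β L) := by omega
        nlinarith
      have h4 := (Subgroup.card_le_one_iff_eq_bot _).1 h3
      intro x hx
      rw [h4] at hx
      exact Subgroup.mem_bot.1 hx
    · intro hcP
      rw [card_hat_of_mem P c hcc hc hcP, hP] at h
      nlinarith

theorem comm_closure {Γ : Type*} [Group Γ] {a z c : Γ} (h1 : c * a = a * c) (h2 : c * z = z * c) :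
    ∀ x ∈ PG a z, c * x = x * c := by
  have : PG a z ≤ Subgroup.centralizer {c} := by
    unfold PG
    rw [Subgroup.closure_le]
    rintro x (rfl | hx)
    · exact Subgroup.mem_centralizer_singleton_iff.2 h1.symm
    · rw [Set.mem_singleton_iff.1 hx]
      exact Subgroup.mem_centralizer_singleton_iff.2 h2.symm
  exact fun x hx => (Subgroup.mem_centralizer_singleton_iff.1 (this hx)).symm

/-- equality of two products, pointwise. -/
def eqB (n a b c d : ℕ) : Bool := allBelow (fun t => Nat.beq (en a (en b t)) (en c (en d t))) n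

theorem mul_eq_of_eqB {σ τ σ' τ' : Equiv.Perm (Fin n)} {a b c d : ℕ} (h1 : HasP σ a) (h2 : HasP τ b)
    (h3 : HasP σ' c) (h4 : HasP τ' d) (h : eqB n a b c d = true) : σ * τ = σ' * τ' := by
  unfold eqB at h
  rw [allBelow_iff] at h
  apply perm_eq_of_val
  intro t
  have := h t t.2
  rw [Nat.beq_eq] at this
  show ((σ (τ t) : Fin n) : ℕ) = σ' (τ' t)
  rw [h1, h2, h3, h4]
  exact this

theorem exists_nth_of_mem {l : List ℕ} {c : ℕ} (h : c ∈ l) : ∃ k < l.length, nth l k = c := by
  induction l with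
  | nil => exact absurd h (by simp)
  | cons a l ih =>
    rcases List.mem_cons.1 h with rfl | h
    · exact ⟨0, by simp, rfl⟩
    · obtain ⟨k, hk, e⟩ := ih h
      exact ⟨k + 1, by simpa using hk, e⟩

end Cfsg.Agent.Lib.Helper92.PCY
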